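import Cfsg.Agent.H59.PSLSeven.Basic

/-!
# `PSL(2,7)` by element orders: elementary abelian 2-subgroups of greatest order
-/

set_option autoImplicit false
set_option linter.style.haveILetI false
set_option linter.unusedSectionVars false

namespace Cfsg.Agent.H59.PSLSeven

open Subgroup

variable {G : Type*} [Group G]

/-- All elements square to one. -/
def EA (A : Subgroup G) : Prop := ∀ x ∈ A, x * x = 1

theorem inv_eq_self_of_sq {x : G} (h : x * x = 1) : x⁻¹ = x := inv_eq_of_mul_eq_one_left h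

theorem commute_of_sq {x y : G} (hx : x * x = 1) (hy : y * y = 1) (hxy : x * y * (x * y) = 1) :
    Commute x y := by
  have := inv_eq_self_of_sq hxy
  rw [mul_inv_rev, inv_eq_self_of_sq hx, inv_eq_self_of_sq hy] at this
  exact this.symm

theorem EA.comm {A : Subgroup G} (h : EA A) {x y : G} (hx : x ∈ A) (hy : y ∈ A) : Commute x y :=
  commute_of_sq (h x hx) (h y hy) (h _ (mul_mem hx hy))

theorem EA.mono {A B : Subgroup G} (h : EA B) (hAB : A ≤ B) : EA A := fun x hx => h x (hAB hx)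

theorem EA.zpowers {x : G} (hx : x * x = 1) : EA (Subgroup.zpowers x) := by
  intro u hu
  obtain ⟨i, rfl⟩ := mem_zpowers_iff.1 hu
  rw [← zpow_add, ← two_mul, zpow_mul, zpow_two, hx, one_zpow]

theorem EA.sup {A B : Subgroup G} (hA : EA A) (hB : EA B)
    (hc : ∀ a ∈ A, ∀ b ∈ B, Commute a b) : EA (A ⊔ B) := by
  have h1 : A ⊔ B ≤ centralizer ((A : Set G) ∪ B) := by
    refine sup_le (fun x hx => mem_centralizer_iff.2 ?_) (fun x hx => mem_centralizer_iff.2 ?_)
    · rintro y (hy | hy)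
      · exact (hA.comm hy hx).eq
      · exact (hc x hx y hy).symm.eq
    · rintro y (hy | hy)
      · exact (hc y hy x hx).eq
      · exact (hB.comm hy hx).eq
  have h2 : ∀ x ∈ A ⊔ B, ∀ y ∈ A ⊔ B, Commute x y := by
    intro x hx y hy
    have hle : A ⊔ B ≤ centralizer ({x} : Set G) := by
      refine sup_le (fun z hz => ?_) (fun z hz => ?_)
      · exact mem_centralizer_singleton_iff.2 (mem_centralizer_iff.1 (h1 hx) z (Or.inl hz))
      · exact mem_centralizer_singleton_iff.2 (mem_centralizer_iff.1 (h1 hx) z (Or.inr hz))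
    exact (mem_centralizer_singleton_iff.1 (hle hy)).symm
  intro x hx
  let K : Subgroup G :=
    { carrier := {z | z ∈ A ⊔ B ∧ z * z = 1}
      one_mem' := ⟨one_mem _, one_mul 1⟩
      mul_mem' := fun {u v} hu hv => ⟨mul_mem hu.1 hv.1, by
        rw [show u * v * (u * v) = u * (v * u) * v by group, ← (h2 u hu.1 v hv.1).eq,
          show u * (u * v) * v = (u * u) * (v * v) by group, hu.2, hv.2, one_mul]⟩
      inv_mem' := fun {u} hu => ⟨inv_mem hu.1, by rw [inv_eq_self_of_sq hu.2]; exact hu.2⟩ }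
  exact ((sup_le (a := A) (b := B) (c := K) (fun z hz => ⟨mem_sup_left hz, hA z hz⟩)
    (fun z hz => ⟨mem_sup_right hz, hB z hz⟩)) hx).2

/-- An elementary abelian subgroup of `P` of greatest order. -/
def MaxEA (P A : Subgroup G) : Prop :=
  A ≤ P ∧ EA A ∧ ∀ B : Subgroup G, B ≤ P → EA B → Nat.card B ≤ Nat.card A

theorem exists_maxEA [Finite G] (P : Subgroup G) : ∃ A, MaxEA P A := by
  obtain ⟨A, ⟨h1, h2⟩, h3⟩ := Set.exists_max_image {A : Subgroup G | A ≤ P ∧ EA A}
    (fun A => Nat.card A) (Set.toFinite _) ⟨⊥, bot_le, fun x hx => by simp [mem_bot.1 hx]⟩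
  exact ⟨A, h1, h2, fun B hB hB' => h3 B ⟨hB, hB'⟩⟩

/-- The subgroup generated by the elementary abelian subgroups of greatest order. -/
def thompJ (P : Subgroup G) : Subgroup G :=
  Subgroup.closure {x | ∃ A, MaxEA P A ∧ x ∈ A}

theorem thompJ_le (P : Subgroup G) : thompJ P ≤ P :=
  (closure_le _).2 fun _ ⟨_, hA, hx⟩ => hA.1 hx

theorem thompJ_ne_bot [Finite G] {P : Subgroup G} (hP : IsPGroup 2 P) (hP1 : P ≠ ⊥) :
    thompJ P ≠ ⊥ := by
  haveI : Fact (Nat.Prime 2) := ⟨Nat.prime_two⟩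
  obtain ⟨v, hv, hvo⟩ := H86.AllPrimePowerOrder.exists_orderOf_eq hP hP1
  obtain ⟨A, hA⟩ := exists_maxEA P
  intro e
  have h2 := hA.2.2 _ (zpowers_le.2 hv) (EA.zpowers (sq_of_orderOf_two hvo).1)
  have hA1 : A = ⊥ := le_bot_iff.1 (e ▸ fun x hx => subset_closure ⟨A, hA, hx⟩)
  rw [hA1, Subgroup.card_bot, Nat.card_zpowers, hvo] at h2
  omega

theorem EA.map {A : Subgroup G} (h : EA A) {K : Type*} [Group K] (f : G →* K) : EA (A.map f) := by
  rintro _ ⟨x, hx, rfl⟩
  rw [← map_mul, h x hx, map_one]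

theorem card_map_conj (A : Subgroup G) (g : G) :
    Nat.card (A.map (MulAut.conj g).toMonoidHom) = Nat.card A :=
  Nat.card_congr (A.equivMapOfInjective _ (MulAut.conj g).injective).toEquiv.symm

theorem mem_normalizer_thompJ [Finite G] {P : Subgroup G} {g : G}
    (h : ∀ A, MaxEA P A → ∀ x ∈ A, g * x * g⁻¹ ∈ P) : g ∈ normalizer (thompJ P : Set G) := by
  refine mem_normalizer_fintype fun x hx => ?_
  refine (show thompJ P ≤ (thompJ P).comap (MulAut.conj g).toMonoidHom from
    (closure_le _).2 ?_) hx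
  rintro z ⟨A, hA, hz⟩
  refine subset_closure ⟨A.map (MulAut.conj g).toMonoidHom, ⟨?_, hA.2.1.map _, ?_⟩, ⟨z, hz, rfl⟩⟩
  · rintro _ ⟨u, hu, rfl⟩; exact h A hA u hu
  · intro B hB hB'; rw [card_map_conj]; exact hA.2.2 B hB hB'

theorem normalizer_le_normalizer_thompJ [Finite G] (P : Subgroup G) :
    normalizer (P : Set G) ≤ normalizer (thompJ P : Set G) :=
  fun _ hg => mem_normalizer_thompJ fun _ hA x hx => (mem_normalizer_iff.1 hg x).1 (hA.1 hx)

/-- A subgroup covered by two translates of another. -/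
theorem card_le_two_mul [Finite G] (H K : Subgroup G) (x0 : G)
    (h : ∀ x ∈ H, x ∉ K → x0 * x ∈ K) : Nat.card H ≤ 2 * Nat.card K := by
  classical
  rw [two_mul, ← Nat.card_sum]
  refine Nat.card_le_card_of_injective
    (fun x : H => if hx : (x : G) ∈ K then Sum.inl (⟨x, hx⟩ : K) else Sum.inr ⟨x0 * x, h x x.2 hx⟩)
    fun x y e => ?_
  dsimp only at e
  split_ifs at e with h1 h2 h2
  · have e' := congrArg Subtype.val (Sum.inl.inj e)
    exact Subtype.ext e'
  · have e' := congrArg Subtype.val (Sum.inr.inj e)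
    exact Subtype.ext (mul_left_cancel e')

theorem eq_of_card_le_two [Finite G] {H : Subgroup G} (h : Nat.card H ≤ 2) {x y : G} (hx : x ∈ H)
    (hy : y ∈ H) (hx1 : x ≠ 1) (hy1 : y ≠ 1) : x = y := by
  by_contra hne
  haveI := Fintype.ofFinite H
  classical
  have : ({1, ⟨x, hx⟩, ⟨y, hy⟩} : Finset H).card = 3 := by
    rw [Finset.card_eq_three]
    exact ⟨_, _, _, fun e => hx1 (congrArg Subtype.val e.symm),
      fun e => hy1 (congrArg Subtype.val e.symm), fun e => hne (congrArg Subtype.val e), rfl⟩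
  have h3 := Finset.card_le_univ ({1, ⟨x, hx⟩, ⟨y, hy⟩} : Finset H)
  rw [this, ← Nat.card_eq_fintype_card] at h3
  omega

end Cfsg.Agent.H59.PSLSeven
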