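import Cfsg.Agent.H59.PSLSeven.StronglyEmbedded
import Cfsg.Agent.H59.PSLSeven.Elementary
import Cfsg.Prelude.Def_LieExceptional
import Cfsg.Agent.S0340

/-!
# `PSL(2,7)` by element orders: the strongly embedded case gives a Zassenhaus group
-/

set_option autoImplicit false
set_option linter.style.haveILetI false
set_option linter.unusedSectionVars false

namespace Cfsg.Agent.H59.PSLSeven

open Subgroup MulAction

local instance factTwoZassenhaus : Fact (Nat.Prime 2) := ⟨Nat.prime_two⟩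

variable {G : Type*} [Group G] [Finite G]

/-- An involution without fixed points inverts the subgroup it normalises. -/
theorem fpf_inverts {C : Subgroup G} {u : G} (hu : u * u = 1) (hn : ∀ d ∈ C, u * d * u⁻¹ ∈ C)
    (hf : ∀ d ∈ C, Commute u d → d = 1) {d : G} (hd : d ∈ C) : u * d * u⁻¹ = d⁻¹ := by
  let φ : C → C := fun e => ⟨(e : G)⁻¹ * (u * e * u⁻¹), C.mul_mem (C.inv_mem e.2) (hn e e.2)⟩
  have hφ : Function.Injective φ := by
    intro e e' hee
    have h1 : (e : G)⁻¹ * (u * e * u⁻¹) = (e' : G)⁻¹ * (u * e' * u⁻¹) := congrArg Subtype.val hee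
    have h2 : u * ((e : G) * (e' : G)⁻¹) * u⁻¹ = (e : G) * (e' : G)⁻¹ := by
      rw [show u * ((e : G) * (e' : G)⁻¹) * u⁻¹ =
        (e : G) * ((e : G)⁻¹ * (u * e * u⁻¹)) * (u * e' * u⁻¹)⁻¹ by group, h1]
      group
    exact Subtype.ext (mul_inv_eq_one.1 (hf _ (C.mul_mem e.2 (C.inv_mem e'.2))
      (mul_inv_eq_iff_eq_mul.1 h2)))
  obtain ⟨e, he⟩ := Finite.surjective_of_injective hφ ⟨d, hd⟩
  have h1 : (e : G)⁻¹ * (u * e * u⁻¹) = d := congrArg Subtype.val he
  rw [← h1, show u * ((e : G)⁻¹ * (u * e * u⁻¹)) * u⁻¹ =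
    u * (e : G)⁻¹ * u⁻¹ * ((u * u) * e * (u * u)⁻¹) by group, hu]
  group

theorem commute_of_smul_conj {Ω : Type*} [MulAction G Ω] {c g : G} {w : Ω} (hc : Commute g c)
    (hw : c • w = w) : c • (g • w) = g • w := by
  rw [smul_smul, ← hc.eq, ← smul_smul, hw]

theorem exists_two_pow' (T : Sylow 2 G) {x : G} (hx : x ∈ (T : Subgroup G)) :
    ∃ k, orderOf x = 2 ^ k := by
  obtain ⟨k, hk⟩ := IsPGroup.iff_orderOf.1 T.2 ⟨x, hx⟩
  exact ⟨k, by rwa [Subgroup.orderOf_mk] at hk⟩

/-- The strongly embedded case. -/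
theorem psl_of_se (h : Hyp G) [IsSimpleGroup G] (hG2 : ∀ H : Subgroup G, H.index ≠ 2) (T : Sylow 2 G)
    {M Y : Subgroup G} (hM : Cfsg.IsStronglyEmbedded M) (hTM : (T : Subgroup G) ≤ M)
    (hs : Group.IsSolvable M) (hY : IsPGroup 2 Y) (hY1 : Y ≠ ⊥) (hYM : Y ≤ M)
    (hYn : M ≤ normalizer (Y : Set G)) :
    (∃ (F : Type) (_ : Field F) (_ : Fintype F),
      Nonempty (G ≃* Matrix.ProjectiveSpecialLinearGroup (Fin 2) F)) ∨ Cfsg.IsSuzuki G := by
  obtain ⟨hTn, r, hr, hr2, hMc, hinv⟩ := se_shape h hG2 T hM hTM hs hY hY1 hYM hYn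
  haveI := Fact.mk hr
  obtain ⟨k, hk⟩ := IsPGroup.iff_card.1 T.2
  have hcop : ∀ {n : ℕ}, n ∣ Nat.card M → Odd n → n ∣ r := fun {n} hn ho => by
    rw [hMc, hk] at hn
    exact ((Nat.coprime_two_right.2 ho).pow_right k).dvd_of_dvd_mul_left hn
  -- stabilisers
  have hstab : ∀ x : G ⧸ M, Nat.card (stabilizer G x) = Nat.card M := by
    intro x
    obtain ⟨g, rfl⟩ := QuotientGroup.mk_surjective x
    have e : stabilizer G (g : G ⧸ M) = M.map (MulAut.conj g).toMonoidHom := by
      rw [show (g : G ⧸ M) = g • ((1 : G) : G ⧸ M) by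
        rw [MulAction.Quotient.smul_coe, smul_eq_mul, mul_one],
        stabilizer_smul_eq_stabilizer_map_conj, stabilizer_quotient]
    rw [e]
    exact Nat.card_congr (M.equivMapOfInjective _ (MulAut.conj g).injective).toEquiv.symm
  have hfixM : ∀ {c g : G}, c • (g : G ⧸ M) = (g : G ⧸ M) → g⁻¹ * c * g ∈ M := fun {c g} hc => by
    rw [MulAction.Quotient.smul_coe, smul_eq_mul, QuotientGroup.eq, mul_inv_rev] at hc
    simpa [mul_assoc] using M.inv_mem hc
  let H2 : (G ⧸ M) → (G ⧸ M) → Subgroup G := fun x y => stabilizer G x ⊓ stabilizer G y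
  have hH2 : ∀ x y, x ≠ y → Nat.card (H2 x y) = r := by
    intro x y hxy
    have hodd : Odd (Nat.card (H2 x y)) := Nat.not_even_iff_odd.1 fun hev => by
      obtain ⟨t, ht, ht2⟩ := H28.exists_involution_mem hev
      exact hxy (H50.se_fix_unique hM ht2 ht.1 ht.2)
    have hd : Nat.card (H2 x y) ∣ r :=
      hcop ((Subgroup.card_dvd_of_le inf_le_left).trans (hstab x).dvd) hodd
    refine ((Nat.dvd_prime hr).1 hd).resolve_left fun h1 => ?_
    have hsw : Nat.card {i : G // orderOf i = 2 ∧ i • x = y} = r :=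
      (H50.se_card_swap hM hxy).trans hinv
    haveI : Nontrivial {i : G // orderOf i = 2 ∧ i • x = y} :=
      Finite.one_lt_card_iff_nontrivial.1 (hsw.symm ▸ hr.one_lt)
    obtain ⟨⟨u, hu⟩, ⟨v, hv⟩, huv⟩ := exists_pair_ne {i : G // orderOf i = 2 ∧ i • x = y}
    have hmem : u * v ∈ H2 x y :=
      ⟨show (u * v) • x = x by rw [mul_smul, hv.2, H50.smul_swap hu.1 hu.2],
        show (u * v) • y = y by rw [mul_smul, H50.smul_swap hv.1 hv.2, hu.2]⟩
    have h1' := Subgroup.card_eq_one.1 h1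
    have e1 : u * v = 1 := mem_bot.1 (h1' ▸ hmem)
    exact huv (Subtype.ext ((eq_inv_of_mul_eq_one_left e1).trans
      (inv_eq_self_of_sq (sq_of_orderOf_two hv.1).1)))
  have hgen : ∀ {x y : G ⧸ M} {c : G}, x ≠ y → c ≠ 1 → c • x = x → c • y = y →
      zpowers c = H2 x y ∧ orderOf c = r := by
    intro x y c hxy hc hcx hcy
    have hm : c ∈ H2 x y := ⟨hcx, hcy⟩
    have hd : orderOf c ∣ r := by
      rw [← hH2 x y hxy, ← Subgroup.orderOf_mk c hm]; exact orderOf_dvd_natCard _
    have ho := ((Nat.dvd_prime hr).1 hd).resolve_left (mt orderOf_eq_one_iff.1 hc)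
    exact ⟨Subgroup.eq_of_le_of_card_ge (zpowers_le.2 hm)
      (by rw [Nat.card_zpowers, ho, hH2 x y hxy]), ho⟩
  -- at most two fixed points
  have hfix : ∀ {x y w : G ⧸ M} {c : G}, x ≠ y → c ≠ 1 → c • x = x → c • y = y → c • w = w →
      w = x ∨ w = y := by
    intro x y w c hxy hc hcx hcy hcw
    obtain ⟨hzc, hco⟩ := hgen hxy hc hcx hcy
    set S := {w : G ⧸ M | c • w = w} with hS
    have hnofix : ∀ u : G, orderOf u = 2 → u * c * u⁻¹ = c⁻¹ → ∀ w ∈ S, u • w ≠ w := by
      intro u hu hi w hw huw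
      obtain ⟨g, rfl⟩ := QuotientGroup.mk_surjective w
      have hu' := hfixM huw
      have hc' := hfixM hw
      have huT : g⁻¹ * u * g ∈ (T : Subgroup G) := by
        haveI : ((T : Subgroup G).subgroupOf M).Normal :=
          (normal_subgroupOf_iff_le_normalizer hTM).2 hTn
        have h1 := orderOf_map_dvd (QuotientGroup.mk' ((T : Subgroup G).subgroupOf M)) ⟨_, hu'⟩
        have h2 := orderOf_dvd_natCard (QuotientGroup.mk' ((T : Subgroup G).subgroupOf M) ⟨_, hu'⟩)
        have hr' : Nat.card (M ⧸ (T : Subgroup G).subgroupOf M) = r := by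
          have := card_eq_card_quotient_mul_card_subgroup ((T : Subgroup G).subgroupOf M)
          rw [hMc, Nat.card_congr (subgroupOfEquivOfLe hTM).toEquiv, mul_comm] at this
          exact (Nat.eq_of_mul_eq_mul_right Nat.card_pos this).symm
        rw [hr'] at h2
        have ho : orderOf (⟨g⁻¹ * u * g, hu'⟩ : M) = 2 := by
          rw [Subgroup.orderOf_mk]
          simpa [hu] using H50.orderOf_conj g⁻¹ u
        rw [ho] at h1
        have h3 := Nat.eq_one_of_dvd_coprimes ((Nat.coprime_primes Nat.prime_two hr).2 (Ne.symm hr2)) h1 h2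
        rw [orderOf_eq_one_iff] at h3
        exact mem_subgroupOf.1 ((QuotientGroup.eq_one_iff _).1 h3)
      have hcc : g⁻¹ * (c * c) * g ∈ (T : Subgroup G) := by
        have h1 := (mem_normalizer_iff.1 (hTn hc') _).1 huT
        have h2 := mul_mem h1 (inv_mem huT)
        rwa [show g⁻¹ * c * g * (g⁻¹ * u * g) * (g⁻¹ * c * g)⁻¹ * (g⁻¹ * u * g)⁻¹ =
          g⁻¹ * (c * (u * c * u⁻¹)⁻¹) * g by group, hi, inv_inv] at h2
      obtain ⟨i, hi'⟩ := exists_two_pow' T hcc
      have ho2 : orderOf (g⁻¹ * (c * c) * g) = r := by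
        have := H50.orderOf_conj g⁻¹ (c * c)
        rw [inv_inv] at this
        rw [this, ← pow_two, orderOf_pow' _ two_ne_zero, hco,
          Nat.Coprime.gcd_eq_one ((Nat.coprime_primes hr Nat.prime_two).2 hr2), Nat.div_one]
      rw [ho2] at hi'
      exact hr2 ((Nat.prime_dvd_prime_iff_eq hr Nat.prime_two).1 (hr.dvd_of_dvd_pow hi'.dvd))
    set C := centralizer ({c} : Set G) with hC
    have hCp : IsPGroup r C :=
      h.epo.isPGroup_centralizer hco _ fun _ hx => mem_centralizer_singleton_iff.1 hx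
    have hcC : ∀ {d : G}, d ∈ C → Commute d c := fun hd => mem_centralizer_singleton_iff.1 hd
    -- involutions exchanging two fixed points invert c
    have hswap : ∀ {u : G} {w w' : G ⧸ M}, orderOf u = 2 → w ∈ S → w' ∈ S → w ≠ w' → u • w = w' →
        u * c * u⁻¹ = c⁻¹ := by
      intro u w w' hu hw hw' hne huw
      obtain ⟨hz, -⟩ := hgen hne hc hw hw'
      refine h.involution_inverts hu (N := zpowers c) ?_ ?_ ?_ (mem_zpowers c)
      · intro a ha b hb
        obtain ⟨i, rfl⟩ := mem_zpowers_iff.1 ha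
        obtain ⟨j, rfl⟩ := mem_zpowers_iff.1 hb
        exact (Commute.refl c).zpow_zpow i j
      · rw [Nat.card_zpowers, hco]; exact hr.odd_of_ne_two hr2
      · rw [hz]
        rintro a ⟨ha, ha'⟩
        have hui : u⁻¹ = u := inv_eq_self_of_sq (sq_of_orderOf_two hu).1
        exact ⟨show (u * a * u⁻¹) • w = w by
            rw [hui, mul_smul, mul_smul, huw, show a • w' = w' from ha', H50.smul_swap hu huw],
          show (u * a * u⁻¹) • w' = w' by
            rw [hui, mul_smul, mul_smul, H50.smul_swap hu huw, show a • w = w from ha, huw]⟩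
    obtain ⟨⟨u0, hu0, hu0xy⟩⟩ : Nonempty {i : G // orderOf i = 2 ∧ i • x = y} :=
      (Nat.card_pos_iff.1 (by rw [H50.se_card_swap hM hxy, hinv]; exact hr.pos)).1
    have hu0i := hswap hu0 hcx hcy hxy hu0xy
    obtain ⟨hu0u, -⟩ := sq_of_orderOf_two hu0
    have hu0' : u0⁻¹ = u0 := inv_eq_self_of_sq hu0u
    have hu0n : ∀ d ∈ C, u0 * d * u0⁻¹ ∈ C := fun d hd => by
      refine mem_centralizer_singleton_iff.2 ?_
      have h1 := ((hcC hd).inv_right).map (MulAut.conj u0).toMonoidHom
      have e : u0 * c⁻¹ * u0⁻¹ = c := by rw [← conj_inv, hu0i, inv_inv]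
      simp only [MulEquiv.coe_toMonoidHom, MulAut.conj_apply, e] at h1
      exact h1.eq
    have hinvC : ∀ d ∈ C, u0 * d * u0⁻¹ = d⁻¹ := fun d hd =>
      fpf_inverts hu0u hu0n (fun e he hcm => by
        obtain ⟨i, hi⟩ := IsPGroup.iff_orderOf.1 hCp ⟨e, he⟩
        rw [orderOf_mk] at hi
        by_contra he1
        have hj : i ≠ 0 := fun i0 => he1 (orderOf_eq_one_iff.1 (by rw [hi, i0, pow_zero]))
        have hco2 : (orderOf e).Coprime (orderOf u0) := by
          rw [hi, hu0]
          exact (Nat.coprime_pow_left_iff (Nat.pos_of_ne_zero hj) _ _).2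
            ((Nat.coprime_primes hr Nat.prime_two).2 hr2)
        exact he1 (h.eq_one_of_commute hcm.symm hco2 (sq_of_orderOf_two hu0).2)) hd
    -- the inverting involutions
    have hCmem : ∀ u : G, u * c * u⁻¹ = c⁻¹ → u0 * u ∈ C := fun u hu => by
      refine mem_centralizer_singleton_iff.2 (mul_inv_eq_iff_eq_mul.1 ?_)
      rw [show u0 * u * c * (u0 * u)⁻¹ = u0 * (u * c * u⁻¹) * u0⁻¹ by group, hu, ← conj_inv, hu0i,
        inv_inv]
    let eI : {u : G // orderOf u = 2 ∧ u * c * u⁻¹ = c⁻¹} ≃ C :=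
      { toFun := fun u => ⟨u0 * u.1, hCmem _ u.2.2⟩
        invFun := fun d => ⟨u0 * d, by
          refine ⟨orderOf_two_of_sq ?_ ?_, ?_⟩
          · have e := hinvC d d.2
            rw [hu0'] at e
            rw [show u0 * (d : G) * (u0 * d) = u0 * d * u0 * d by group, e, inv_mul_cancel]
          · intro e
            have hd : (d : G) = u0 := (eq_inv_of_mul_eq_one_right e).trans hu0'
            have h1 : u0 * c * u0⁻¹ = c := mul_inv_eq_iff_eq_mul.2 (hd ▸ hcC d.2).eq
            rw [hu0i] at h1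
            have h2 : c * c = 1 := by nth_rewrite 1 [← h1]; exact inv_mul_cancel c
            rw [orderOf_two_of_sq h2 hc] at hco
            exact hr2 hco.symm
          · rw [show u0 * (d : G) * c * (u0 * d)⁻¹ = u0 * ((d : G) * c * (d : G)⁻¹) * u0⁻¹ by group,
              mul_inv_eq_iff_eq_mul.2 (hcC d.2).eq, hu0i]⟩
        left_inv := fun u => Subtype.ext (by
          show u0 * (u0 * u.1) = u.1
          rw [← mul_assoc, hu0u, one_mul])
        right_inv := fun d => Subtype.ext (by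
          show u0 * (u0 * d) = (d : G)
          rw [← mul_assoc, hu0u, one_mul]) }
    -- double counting
    have hcount : Nat.card C = Nat.card {w // c • w = w ∧ w ≠ x} * r := by
      rw [← Nat.card_congr eI]
      let g : {u : G // orderOf u = 2 ∧ u * c * u⁻¹ = c⁻¹} → {w // c • w = w ∧ w ≠ x} := fun u =>
        ⟨u.1 • x, by
          have e : c * u.1 = u.1 * c⁻¹ := by
            have := congrArg (·⁻¹) u.2.2
            simp only [mul_inv_rev, inv_inv] at this
            calc c * u.1 = (u.1 * (c⁻¹ * u.1⁻¹)) * u.1 := by rw [this]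
              _ = u.1 * c⁻¹ := by group
          rw [smul_smul, e, mul_smul, inv_smul_eq_iff.2 hcx.symm], hnofix u.1 u.2.1 u.2.2 x hcx⟩
      haveI := Fintype.ofFinite {w // c • w = w ∧ w ≠ x}
      rw [← Nat.card_congr (Equiv.sigmaFiberEquiv g), Nat.card_sigma,
        Nat.card_eq_fintype_card (α := {w // c • w = w ∧ w ≠ x})]
      rw [Finset.sum_congr rfl (fun w _ => ?_), Finset.sum_const, Finset.card_univ, smul_eq_mul]
      rw [← hinv, ← H50.se_card_swap hM (Ne.symm w.2.2)]
      exact Nat.card_congr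
        { toFun := fun u => ⟨u.1.1, u.1.2.1, congrArg Subtype.val u.2⟩
          invFun := fun i => ⟨⟨i.1, i.2.1, hswap i.2.1 hcx w.2.1 (Ne.symm w.2.2) i.2.2⟩,
            Subtype.ext i.2.2⟩
          left_inv := fun u => rfl
          right_inv := fun i => rfl }
    -- the orbit of x under the centraliser
    have hstC : Nat.card (stabilizer C x) = r := by
      set K := C ⊓ stabilizer G x with hK
      have e : (stabilizer C x).map C.subtype = K := by
        ext d
        constructor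
        · rintro ⟨d', hd', rfl⟩; exact ⟨d'.2, hd'⟩
        · rintro ⟨hd, hdx⟩; exact ⟨⟨d, hd⟩, hdx, rfl⟩
      rw [Nat.card_congr ((stabilizer C x).equivMapOfInjective _ C.subtype_injective).toEquiv, e]
      have hdM : Nat.card K ∣ Nat.card M := (Subgroup.card_dvd_of_le inf_le_right).trans (hstab x).dvd
      obtain ⟨i, hi⟩ := IsPGroup.iff_card.1 (hCp.to_le (inf_le_left : K ≤ C))
      have hd := hcop hdM (hi ▸ (hr.odd_of_ne_two hr2).pow)
      refine Nat.dvd_antisymm hd ?_
      have hcK : c ∈ K := ⟨mem_centralizer_singleton_iff.2 rfl, hcx⟩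
      rw [← hco, ← Subgroup.orderOf_mk c hcK]
      exact orderOf_dvd_natCard _
    have horb : (orbit C x).ncard = Nat.card {w // c • w = w ∧ w ≠ x} := by
      have h1 := (stabilizer C x).card_mul_index
      rw [hstC, index_stabilizer, hcount, mul_comm] at h1
      exact Nat.eq_of_mul_eq_mul_right hr.pos h1
    have hSsub : orbit C x ⊆ S := by
      rintro _ ⟨d, rfl⟩
      exact commute_of_smul_conj (hcC d.2) hcx
    have hSsub' : (fun w => u0 • w) '' orbit C x ⊆ S := by
      rintro _ ⟨w, hw, rfl⟩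
      show c • (u0 • w) = u0 • w
      have hw' : c • w = w := hSsub hw
      have e : u0 * c⁻¹ = c * u0 := by
        rw [← mul_inv_eq_iff_eq_mul, ← conj_inv, hu0i, inv_inv]
      rw [smul_smul, ← e, mul_smul, inv_smul_eq_iff.2 hw'.symm]
    have hdisj : Disjoint (orbit C x) ((fun w => u0 • w) '' orbit C x) := by
      rw [Set.disjoint_left]
      rintro _ ⟨d, rfl⟩ ⟨_, ⟨d', rfl⟩, he⟩
      replace he : u0 • ((d' : G) • x) = (d : G) • x := he
      set v := eI.symm (d * d') with hv
      refine hnofix v.1 v.2.1 v.2.2 x hcx ?_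
      show (u0 * ((d : G) * d')) • x = x
      have h1 := hinvC d d.2
      rw [hu0'] at h1
      rw [← mul_assoc, show u0 * (d : G) = (d : G)⁻¹ * u0 by
        rw [← h1, mul_assoc, hu0u, mul_one], mul_assoc, mul_smul, mul_smul, he, inv_smul_smul]
    have hSc : S.ncard = Nat.card {w // c • w = w ∧ w ≠ x} + 1 := by
      have h1 : {w : G ⧸ M | c • w = w ∧ w ≠ x} = S \ {x} := by ext w; simp [hS]
      have h2 := Set.ncard_diff_singleton_add_one (show x ∈ S from hcx) (Set.toFinite _)
      rw [← h1, ← Nat.card_coe_set_eq] at h2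
      exact h2.symm
    have hle := Set.ncard_le_ncard (Set.union_subset hSsub hSsub') (Set.toFinite _)
    rw [Set.ncard_union_eq hdisj (Set.toFinite _) (Set.toFinite _),
      Set.ncard_image_of_injective _ (MulAction.injective u0), horb, hSc] at hle
    by_contra hcon
    push Not at hcon
    have hsub : ({x, y, w} : Set (G ⧸ M)) ⊆ S := by
      rintro z (rfl | rfl | rfl)
      exacts [hcx, hcy, hcw]
    have h3 := Set.ncard_le_ncard hsub (Set.toFinite _)
    have h4 : ({x, y, w} : Set (G ⧸ M)).ncard = 3 :=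
      Set.ncard_eq_three.2 ⟨x, y, w, hxy, hcon.1.symm, hcon.2.symm, rfl⟩
    omega
  -- the action
  obtain ⟨g0, -, hg0⟩ := SetLike.exists_of_lt (lt_top_iff_ne_top.2 hM.1)
  set p0 : G ⧸ M := ((1 : G) : G ⧸ M) with hp0
  have hp : p0 ≠ (g0 : G ⧸ M) := fun e => hg0 (by simpa using QuotientGroup.eq.1 e)
  have hfaith : FaithfulSMul G (G ⧸ M) := ⟨fun {g1 g2} hg => by
    have hker : g1⁻¹ * g2 ∈ M.normalCore := fun k => by
      have h1 : (g1⁻¹ * g2) • ((k⁻¹ : G) : G ⧸ M) = ((k⁻¹ : G) : G ⧸ M) := by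
        rw [mul_smul, ← hg, inv_smul_smul]
      have := hfixM h1
      rwa [inv_inv] at this
    rcases M.normalCore_normal.eq_bot_or_eq_top with e | e
    · exact inv_mul_eq_one.1 (mem_bot.1 (e ▸ hker))
    · exact absurd (top_le_iff.1 (e ▸ M.normalCore_le)) hM.1⟩
  have h2t : MulAction.IsMultiplyPretransitive G (G ⧸ M) 2 := by
    refine is_two_pretransitive_iff.2 fun {a b c d} hab hcd => ?_
    obtain ⟨g1, rfl⟩ := MulAction.exists_smul_eq G a c
    set b' := g1 • b with hb'
    have hcb : g1 • a ≠ b' := fun e => hab (MulAction.injective g1 e)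
    set c0 := g1 • a
    set K := stabilizer G c0
    have hA : Nat.card ((H2 c0 b').subgroupOf K) = r := by
      rw [Nat.card_congr (subgroupOfEquivOfLe inf_le_left).toEquiv, hH2 _ _ hcb]
    have hB : Nat.card ((H2 c0 d).subgroupOf K) = r := by
      rw [Nat.card_congr (subgroupOfEquivOfLe inf_le_left).toEquiv, hH2 _ _ hcd]
    obtain ⟨PA, hPA⟩ := (IsPGroup.of_card (n := 1) (hA.trans (pow_one r).symm)).exists_le_sylow
    obtain ⟨PB, hPB⟩ := (IsPGroup.of_card (n := 1) (hB.trans (pow_one r).symm)).exists_le_sylow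
    have hK1 : r ∣ Nat.card K := hA ▸ Subgroup.card_subgroup_dvd_card _
    have hK2 : ¬ r ^ 2 ∣ Nat.card K := fun hd => by
      have := hcop ((hstab c0) ▸ hd) ((hr.odd_of_ne_two hr2).pow)
      rw [pow_two] at this
      have := Nat.le_of_dvd hr.pos this
      have := hr.two_le
      nlinarith
    have eA := Subgroup.eq_of_le_of_card_ge hPA (by rw [hA]; exact (card_sylow_eq_prime hK1 hK2 PA).le)
    have eB := Subgroup.eq_of_le_of_card_ge hPB (by rw [hB]; exact (card_sylow_eq_prime hK1 hK2 PB).le)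
    obtain ⟨k', hk'⟩ := MulAction.exists_smul_eq K PA PB
    haveI : Nontrivial (H2 c0 b') :=
      Finite.one_lt_card_iff_nontrivial.1 ((hH2 _ _ hcb).symm ▸ hr.one_lt)
    obtain ⟨⟨e, he⟩, he1⟩ := exists_ne (1 : H2 c0 b')
    have hek : (k' : G) * e * (k' : G)⁻¹ ∈ H2 c0 d := by
      have h1 : (k' * ⟨e, he.1⟩ * k'⁻¹ : K) ∈ (PB : Subgroup K) := by
        rw [← hk']
        exact ⟨⟨e, he.1⟩, eA ▸ (show (⟨e, he.1⟩ : K) ∈ (H2 c0 b').subgroupOf K from he), rfl⟩
      rw [← eB] at h1
      exact h1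
    refine ⟨(k' : G) * g1, by rw [mul_smul]; exact k'.2, ?_⟩
    rw [mul_smul, ← hb']
    have hne1 : (k' : G) * e * (k' : G)⁻¹ ≠ 1 := fun e' => he1 (Subtype.ext (conj_eq_one_iff.1 e'))
    have hfb : ((k' : G) * e * (k' : G)⁻¹) • ((k' : G) • b') = (k' : G) • b' := by
      rw [mul_smul, mul_smul, inv_smul_smul, show e • b' = b' from he.2]
    refine (hfix hcd hne1 hek.1 hek.2 hfb).resolve_left fun e' => hcb ?_
    exact MulAction.injective (k' : G) ((show (k' : G) • c0 = c0 from k'.2).trans e'.symm)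
  have hZ : Cfsg.IsZassenhausGroup G (G ⧸ M) := by
    refine ⟨hfaith, h2t, fun g a b c hab hbc hac ha hb hc => ?_, ?_, fun N hN htr => ?_⟩
    · by_contra hg
      rcases hfix hab hg ha hb hc with e | e
      · exact hac e.symm
      · exact hbc e.symm
    · haveI : Nontrivial (H2 p0 g0) :=
        Finite.one_lt_card_iff_nontrivial.1 ((hH2 _ _ hp).symm ▸ hr.one_lt)
      obtain ⟨⟨e, he⟩, he1⟩ := exists_ne (1 : H2 p0 g0)
      exact ⟨e, fun e' => he1 (Subtype.ext e'), p0, g0, hp, he.1, he.2⟩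
    · rcases hN.eq_bot_or_eq_top with rfl | rfl
      · obtain ⟨⟨n, hn⟩, hne⟩ := htr.exists_smul_eq p0 (g0 : G ⧸ M)
        rw [mem_bot] at hn
        subst hn
        exact absurd ((one_smul G p0).symm.trans hne) hp
      · refine ⟨p0, fun e => ?_⟩
        have hz : ∀ m ∈ M, m = 1 := fun m hm => by
          have hmem : (⟨m, mem_top m⟩ : (⊤ : Subgroup G)) ∈ stabilizer (⊤ : Subgroup G) p0 := by
            show m • p0 = p0
            exact H50.smul_one_coset_eq_iff.2 hm
          exact congrArg Subtype.val (mem_bot.1 (le_of_eq e hmem))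
        have h1 := (Subgroup.eq_bot_iff_forall M).2 hz
        have h2 := hM.2.1
        rw [h1, Subgroup.card_bot] at h2
        exact Nat.not_even_one h2
  exact S0340.result hZ

end Cfsg.Agent.H59.PSLSeven
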