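import Cfsg.Agent.H59.PSLSeven.Basic
import Cfsg.Agent.H19.MinimalNormal
import Cfsg.Agent.H6.Basic
import Cfsg.Agent.H1.PSLSimple
import Cfsg.Agent.H25.Burnside
import Cfsg.Agent.H31.Simple168Subgroups
import Cfsg.Agent.S3331

/-!
# `PSL(2,7)` by element orders: a Sylow subgroup of order three, and nonsimple groups
-/

set_option autoImplicit false
set_option linter.style.haveILetI false
set_option linter.unusedSectionVars false

universe u

namespace Cfsg.Agent.H59.PSLSeven

open Subgroup

local instance factSeven : Fact (Nat.Prime 7) := ⟨by norm_num⟩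
local instance factThree : Fact (Nat.Prime 3) := ⟨Nat.prime_three⟩
local instance factTwo : Fact (Nat.Prime 2) := ⟨Nat.prime_two⟩

/-- The model group. -/
abbrev L7 : Type := Matrix.ProjectiveSpecialLinearGroup (Fin 2) (ZMod 7)

theorem card_L7 : Nat.card L7 = 168 := by
  rw [H6.card_psl2 (ZMod.card 7)]
  norm_num

theorem isSimpleGroup_L7 : IsSimpleGroup L7 :=
  H1.isSimpleGroup_PSL (Or.inr ⟨2, by decide, by decide⟩)

theorem not_isSolvable_L7 : ¬ Group.IsSolvable L7 := by
  intro hs
  haveI := isSimpleGroup_L7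
  have hc := IsSimpleGroup.comm_iff_isSolvable.2 hs
  letI : CommGroup L7 := { (inferInstance : Group L7) with mul_comm := hc }
  haveI : Finite L7 := Nat.finite_of_card_ne_zero (by rw [card_L7]; norm_num)
  have hp : (Nat.card L7).Prime := IsSimpleGroup.prime_card
  rw [card_L7] at hp
  norm_num at hp

theorem card_sylow_eq_prime {G : Type*} [Group G] [Finite G] {p : ℕ} [hp : Fact p.Prime]
    (h1 : p ∣ Nat.card G) (h2 : ¬ p ^ 2 ∣ Nat.card G) (S : Sylow p G) : Nat.card S = p := by
  have hS := S.card_eq_multiplicity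
  have hne : Nat.card G ≠ 0 := Nat.card_pos.ne'
  have hlow := (hp.out.pow_dvd_iff_le_factorization (k := 1) hne).1 (by simpa using h1)
  have hup : ¬ 2 ≤ (Nat.card G).factorization p :=
    fun hh => h2 ((hp.out.pow_dvd_iff_le_factorization hne).2 hh)
  rw [show (Nat.card G).factorization p = 1 by omega, pow_one] at hS
  exact hS

variable {G : Type u} [Group G] [Finite G]

/-- A Sylow 3-subgroup of order three forces `PSL(2,7)`. -/
theorem caseA (h : Hyp G) (h5 : ¬ 5 ∣ Nat.card G) (hns : ¬ Group.IsSolvable G) (S : Sylow 3 G) (hS : Nat.card S = 3) :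
    Nonempty (G ≃* L7) := by
  obtain ⟨v, hv, hvo⟩ := H86.AllPrimePowerOrder.exists_orderOf_eq S.2
    (fun e => by
      have : Nat.card (S : Subgroup G) = 3 := hS
      rw [e, Subgroup.card_bot] at this; omega)
  have hSe : zpowers v = (S : Subgroup G) := Subgroup.eq_of_le_of_card_ge (zpowers_le.2 hv)
    (by rw [Nat.card_zpowers, hvo]; exact hS.le)
  have hle : (S : Subgroup G) ≤ centralizer ((S : Subgroup G) : Set G) := by
    rw [← hSe]
    exact fun x hx => mem_centralizer_iff.2 fun y hy => by
      obtain ⟨i, rfl⟩ := mem_zpowers_iff.1 hx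
      obtain ⟨j, rfl⟩ := mem_zpowers_iff.1 (SetLike.mem_coe.1 hy)
      exact ((Commute.refl v).zpow_zpow j i).eq
  have hC : centralizer ((S : Subgroup G) : Set G) = (S : Subgroup G) :=
    S.3 (h.epo.isPGroup_centralizer hvo _ fun c hc => ((mem_centralizer_iff.1 hc) v hv).symm) hle
  rcases S3331.result (S : Subgroup G) hS hC with
    ⟨N, hN, hnil, -, hq⟩ | ⟨N, hN, -, -, ⟨e⟩⟩ | h7
  · haveI := hN
    haveI := hnil
    have hNs : Group.IsSolvable N := inferInstance
    have hQs : Group.IsSolvable (G ⧸ N) := by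
      rcases hq with hq | ⟨⟨e⟩⟩
      · exact H25.isSolvable_of_card_eq_mul_pow (a := 1) (b := 0) Nat.prime_three Nat.prime_two
          (by rw [hq]; norm_num)
      · exact H25.isSolvable_of_card_eq_mul_pow (a := 1) (b := 1) Nat.prime_two Nat.prime_three
          (by rw [Nat.card_congr e.toEquiv, Nat.card_eq_fintype_card, Fintype.card_perm,
            Fintype.card_fin]; rfl)
    exact absurd ((Group.isSolvable_iff_subgroup_quotient N).2 ⟨hNs, hQs⟩) hns
  · haveI := hN
    refine absurd ?_ h5
    have h1 : Nat.card (G ⧸ N) = 60 := by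
      rw [Nat.card_congr e.toEquiv, nat_card_alternatingGroup, Nat.card_eq_fintype_card,
        Fintype.card_fin]
      rfl
    rw [card_eq_card_quotient_mul_card_subgroup N, h1]
    exact Dvd.dvd.mul_right (by norm_num) _
  · exact h7

/-- A nonsimple group of this kind has a Sylow 3-subgroup of order three. -/
theorem nonsimple (h : Hyp G) (h5 : ¬ 5 ∣ Nat.card G) (hns : ¬ Group.IsSolvable G)
    (ih : ∀ (K : Type u) [Group K] [Finite K], Nat.card K < Nat.card G → Hyp K → ¬ 5 ∣ Nat.card K →
      ¬ Group.IsSolvable K → Nonempty (K ≃* L7))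
    (hs : ¬ IsSimpleGroup G) (S : Sylow 3 G) : Nat.card S = 3 := by
  haveI : Nontrivial G := not_subsingleton_iff_nontrivial.1 fun _ => hns inferInstance
  obtain ⟨K, hK, hKb, hKt⟩ : ∃ K : Subgroup G, K.Normal ∧ K ≠ ⊥ ∧ K ≠ ⊤ := by
    by_contra hc
    push Not at hc
    exact hs ⟨fun H hH => or_iff_not_imp_left.2 fun hb => hc H hH hb⟩
  haveI := hK
  obtain ⟨N, hN, hNb, hNK, hmin⟩ := H19.exists_minimalNormal_le K hKb
  haveI := hN
  have hNt : N ≠ ⊤ := fun e => hKt (top_le_iff.1 (e ▸ hNK))
  by_cases hNs : Group.IsSolvable N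
  · -- solvable minimal normal subgroup
    have hQ : ¬ Group.IsSolvable (G ⧸ N) := fun hq =>
      hns ((Group.isSolvable_iff_subgroup_quotient N).2 ⟨hNs, hq⟩)
    have hlt : Nat.card (G ⧸ N) < Nat.card G := by
      rw [card_eq_card_quotient_mul_card_subgroup N]
      exact lt_mul_of_one_lt_right Nat.card_pos
        (Finite.one_lt_card_iff_nontrivial.2 ((nontrivial_iff_ne_bot N).2 hNb))
    obtain ⟨e⟩ := ih _ hlt (h.quotient N) (fun hd => h5 (hd.trans (Subgroup.card_quotient_dvd_card N))) hQ
    have hGN : Nat.card G = 168 * Nat.card N := by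
      rw [card_eq_card_quotient_mul_card_subgroup N, Nat.card_congr e.toEquiv, card_L7]
    obtain ⟨hcomm, p, hp, hNp, -⟩ := H19.minimalNormal_elementary N hNs hNb hmin
    haveI := Fact.mk hp
    rcases ne_or_eq p 3 with hp3 | rfl
    · refine card_sylow_eq_prime (by rw [hGN]; exact Dvd.dvd.mul_right (by norm_num) _) ?_ S
      obtain ⟨i, hi⟩ := IsPGroup.iff_card.1 hNp
      rw [hGN, hi]
      intro hd
      exact absurd ((Nat.coprime_pow_primes 2 i Nat.prime_three hp (Ne.symm hp3)).dvd_of_dvd_mul_right hd)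
        (by norm_num)
    exfalso
    haveI : IsSimpleGroup (G ⧸ N) := by
      haveI := isSimpleGroup_L7
      haveI : Nontrivial (G ⧸ N) := e.toEquiv.nontrivial
      exact IsSimpleGroup.isSimpleGroup_of_surjective e.symm.toMonoidHom e.symm.surjective
    have hc168 : Nat.card (G ⧸ N) = 168 := by rw [Nat.card_congr e.toEquiv, card_L7]
    let π := QuotientGroup.mk' N
    obtain ⟨P⟩ : Nonempty (Sylow 2 G) := inferInstance
    let T : Sylow 2 (G ⧸ N) := P.mapSurjective (QuotientGroup.mk'_surjective N)
    have h2 := H31.Simple168.card_kleinFours hc168 T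
    obtain ⟨⟨U, hUT, hU⟩⟩ : Nonempty {U : Subgroup (G ⧸ N) // U ≤ (T : Subgroup (G ⧸ N)) ∧
        IsKleinFour ↥U} := (Nat.card_pos_iff.1 (by rw [h2]; norm_num)).1
    have hinf : ∀ x ∈ (P : Subgroup G), π x = 1 → x = 1 := by
      intro x hx hx1
      have hd : (P : Subgroup G) ⊓ N = ⊥ := by
        refine Subgroup.inf_eq_bot_of_coprime ?_
        obtain ⟨i, hi⟩ := IsPGroup.iff_card.1 P.2
        obtain ⟨j, hj⟩ := IsPGroup.iff_card.1 hNp
        rw [hi, hj]
        exact coprime_two_pow Nat.prime_three (by norm_num) i j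
      exact mem_bot.1 (hd ▸ ⟨hx, (QuotientGroup.eq_one_iff x).1 hx1⟩)
    have hlift : ∀ u : U, ∃ x ∈ (P : Subgroup G), π x = u := fun u => by
      have hu : (u : G ⧸ N) ∈ ((P : Subgroup G).map π) := hUT u.2
      exact hu
    haveI := Fintype.ofFinite U
    haveI : Nontrivial U := Finite.one_lt_card_iff_nontrivial.1 (by rw [hU.card_four]; norm_num)
    obtain ⟨u, hu⟩ : ∃ u : U, u ≠ 1 := exists_ne 1
    obtain ⟨w, hw1, hwu⟩ : ∃ w : U, w ≠ 1 ∧ w ≠ u := by
      by_contra hc
      push Not at hc
      classical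
      have hsub : (Finset.univ : Finset U) ⊆ {1, u} := fun x _ => by
        rcases eq_or_ne x 1 with rfl | hx
        · simp
        · simp [hc x hx]
      have h4 := (Finset.card_le_card hsub).trans Finset.card_le_two
      rw [Finset.card_univ, ← Nat.card_eq_fintype_card, hU.card_four] at h4
      omega
    obtain ⟨a, haP, hau⟩ := hlift u
    obtain ⟨b, hbP, hbw⟩ := hlift w
    have hinv : ∀ x : G, x ∈ (P : Subgroup G) → ∀ v : U, v ≠ 1 → π x = (v : G ⧸ N) →
        orderOf x = 2 := fun x hxP v hv hxv => by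
      refine orderOf_two_of_sq (hinf _ (mul_mem hxP hxP) ?_) fun e1 => hv (Subtype.ext ?_)
      · rw [map_mul, hxv, ← Subgroup.coe_mul, hU.mul_self v]; rfl
      · rw [← hxv, e1, map_one]; rfl
    have hab : a * b ≠ 1 := fun e1 => hwu (by
      have h1 : π a * π b = 1 := by rw [← map_mul, e1, map_one]
      rw [hau, hbw, ← Subgroup.coe_mul] at h1
      have h2' : u * w = 1 := Subtype.ext h1
      exact mul_left_cancel (a := u) (h2'.trans (hU.mul_self u).symm))
    have hab2 : orderOf (a * b) = 2 := hinv (a * b) (mul_mem haP hbP) (u * w)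
      (fun e1 => hwu (mul_left_cancel (a := u) (e1.trans (hU.mul_self u).symm)))
      (by rw [map_mul, hau, hbw]; rfl)
    haveI := hcomm
    have hodd : Odd (Nat.card N) := by
      obtain ⟨j, hj⟩ := IsPGroup.iff_card.1 hNp
      rw [hj]; exact (by decide : Odd 3).pow
    obtain ⟨⟨n, hn⟩, hn1⟩ := @exists_ne N ((nontrivial_iff_ne_bot N).2 hNb) 1
    have key : ∀ x : G, orderOf x = 2 → ∀ m ∈ N, x * m * x⁻¹ = m⁻¹ := fun x hx m hm =>
      h.involution_inverts hx (fun c hc d hd => congrArg Subtype.val (hcomm.is_comm.comm (⟨c, hc⟩ : N) ⟨d, hd⟩))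
        hodd (fun z hz => hN.conj_mem z hz x) hm
    have h3 := key (a * b) hab2 n hn
    rw [show a * b * n * (a * b)⁻¹ = a * (b * n * b⁻¹) * a⁻¹ by group,
      key b (hinv b hbP w hw1 hbw) n hn, key a (hinv a haP u hu hau) _ (N.inv_mem hn), inv_inv] at h3
    have hd : orderOf n ∣ Nat.gcd 2 (Nat.card N) := Nat.dvd_gcd
      (orderOf_dvd_of_pow_eq_one (by rw [pow_two]; nth_rewrite 1 [h3]; exact inv_mul_cancel n))
      ((Subgroup.orderOf_mk n hn) ▸ orderOf_dvd_natCard _)
    rw [(Nat.coprime_two_left.2 hodd).gcd_eq_one, Nat.dvd_one, orderOf_eq_one_iff] at hd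
    exact hn1 (Subtype.ext hd)
  · -- nonsolvable minimal normal subgroup
    have hlt : Nat.card N < Nat.card G := by
      rw [← Nat.card_congr (Subgroup.topEquiv (G := G)).toEquiv]
      exact Set.Finite.card_lt_card (Set.toFinite _) (SetLike.coe_ssubset_coe.2 (lt_top_iff_ne_top.2 hNt))
    obtain ⟨e⟩ := ih _ hlt (h.subgroup N) (fun hd => h5 (hd.trans N.card_subgroup_dvd_card)) hNs
    haveI hNsimple : IsSimpleGroup N := by
      haveI := isSimpleGroup_L7
      haveI : Nontrivial N := (nontrivial_iff_ne_bot N).2 hNb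
      exact IsSimpleGroup.isSimpleGroup_of_surjective e.symm.toMonoidHom e.symm.surjective
    have hcN : Nat.card N = 168 := by rw [Nat.card_congr e.toEquiv, card_L7]
    obtain ⟨Q⟩ : Nonempty (Sylow 7 N) := inferInstance
    have hQ7 : Nat.card Q = 7 := card_sylow_eq_prime (by rw [hcN]; norm_num) (by rw [hcN]; norm_num) Q
    have hn8 : (Subgroup.normalizer ((Q : Subgroup N) : Set N)).index = 8 := by
      have h1 := card_sylow_modEq_one 7 N
      have h2 := Q.card_dvd_index
      have hi : (Q : Subgroup N).index = 24 := by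
        have := (Q : Subgroup N).card_mul_index
        rw [hcN, show Nat.card (Q : Subgroup N) = 7 from hQ7] at this
        omega
      rw [hi] at h2
      refine (Q.card_eq_index_normalizer).symm.trans ?_
      have hne : Nat.card (Sylow 7 N) ≠ 1 := by
        intro h1'
        have hQn : (Q : Subgroup N).Normal :=
          normalizer_eq_top_iff.1 (index_eq_one.1 (Q.card_eq_index_normalizer.symm.trans h1'))
        rcases hQn.eq_bot_or_eq_top with hb | ht
        · have : Nat.card (Q : Subgroup N) = 7 := hQ7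
          rw [hb, Subgroup.card_bot] at this; omega
        · have : Nat.card (Q : Subgroup N) = 7 := hQ7
          rw [ht, Subgroup.card_top, hcN] at this; omega
      have hle := Nat.le_of_dvd (by norm_num) h2
      rw [Nat.ModEq] at h1
      interval_cases hk : Nat.card (Sylow 7 N) <;> omega
    set NG := Subgroup.normalizer (((Q : Subgroup N).map N.subtype : Subgroup G) : Set G) with hNG
    have hsub : NG.subgroupOf N = Subgroup.normalizer ((Q : Subgroup N) : Set N) := by
      have hmem : ∀ z : N, (z : G) ∈ (Q : Subgroup N).map N.subtype ↔ z ∈ (Q : Subgroup N) :=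
        fun z => by simp
      ext ⟨x, hx⟩
      rw [mem_subgroupOf, hNG, mem_normalizer_iff, mem_normalizer_iff]
      constructor
      · intro hh z
        rw [← hmem z, ← hmem]
        exact hh z
      · intro hh z
        by_cases hz : z ∈ N
        · have := hh ⟨z, hz⟩
          rw [← hmem, ← hmem] at this
          exact this
        · constructor <;> rintro ⟨w, hw, he⟩
          · exact absurd (he ▸ w.2) hz
          · refine absurd ?_ hz
            have he' : (w : G) = x * z * x⁻¹ := he
            rw [show z = x⁻¹ * w * x by rw [he']; group]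
            exact mul_mem (mul_mem (inv_mem hx) w.2) hx
    have h21 : Nat.card (Subgroup.normalizer ((Q : Subgroup N) : Set N)) = 21 := by
      have := (Subgroup.normalizer ((Q : Subgroup N) : Set N)).card_mul_index
      rw [hn8, hcN] at this
      omega
    have hrel : N.relIndex NG * 21 = Nat.card NG := by
      have h1 := (N.subgroupOf NG).card_mul_index
      have h2 : Nat.card (N.subgroupOf NG) = Nat.card (NG.subgroupOf N) := by
        rw [← Subgroup.inf_subgroupOf_right N NG, ← Subgroup.inf_subgroupOf_right NG N,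
          Nat.card_congr (subgroupOfEquivOfLe inf_le_right).toEquiv,
          Nat.card_congr (subgroupOfEquivOfLe inf_le_right).toEquiv, inf_comm]
      rw [h2, hsub, h21] at h1
      rw [mul_comm]; exact h1
    have hGc : Nat.card G = 168 * N.relIndex NG := by
      have h1 := N.card_mul_index
      rw [hcN] at h1
      rw [← h1, ← Subgroup.relIndex_sup_right (H := NG) (K := N), Sylow.normalizer_sup_eq_top Q,
        relIndex_top_right]
    refine card_sylow_eq_prime (by rw [hGc]; exact Dvd.dvd.mul_right (by norm_num) _) ?_ S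
    intro hd
    -- then nine divides the normaliser of the Sylow 7-subgroup
    set Q' := (Q : Subgroup N).map N.subtype with hQ'
    have hQ'c : Nat.card Q' = 7 := by
      rw [hQ', Nat.card_congr ((Q : Subgroup N).equivMapOfInjective _ N.subtype_injective).toEquiv.symm]
      exact hQ7
    haveI : IsCyclic Q' := isCyclic_of_prime_card hQ'c
    have h9 : 9 ∣ Nat.card NG := by
      rw [← hrel]
      have h1 : 3 * 3 ∣ 3 * (56 * N.relIndex NG) := by
        rw [← mul_assoc]; norm_num; rw [← hGc]; simpa using hd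
      have h3 : 3 ∣ N.relIndex NG :=
        (Nat.Coprime.dvd_of_dvd_mul_left (by norm_num) (Nat.dvd_of_mul_dvd_mul_left (by norm_num) h1))
      exact (mul_dvd_mul h3 (by norm_num : 3 ∣ 21))
    have hk := (normalizerMonoidHom Q').ker.card_mul_index
    rw [Subgroup.index_ker] at hk
    have hr : Nat.card (normalizerMonoidHom Q').range ∣ 6 := by
      have := Subgroup.card_subgroup_dvd_card (normalizerMonoidHom Q').range
      rwa [IsCyclic.card_mulAut, hQ'c, Nat.totient_prime (by norm_num)] at this
    obtain ⟨v, hv, hvo⟩ := H86.AllPrimePowerOrder.exists_orderOf_eq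
      (IsPGroup.of_card (p := 7) (n := 1) (by rw [hQ'c, pow_one]))
      (fun e' => by rw [e', Subgroup.card_bot] at hQ'c; omega)
    have hker : IsPGroup 7 (centralizer (Q' : Set G)) :=
      h.epo.isPGroup_centralizer hvo _ fun c hc => ((mem_centralizer_iff.1 hc) v hv).symm
    have hker' : IsPGroup 7 (normalizerMonoidHom Q').ker := by
      rw [normalizerMonoidHom_ker]
      exact hker.comap_of_injective _ Subtype.coe_injective
    obtain ⟨i, hi⟩ := IsPGroup.iff_card.1 hker'
    rw [← hk, hi] at h9
    have h96 : 9 ∣ 6 := (Nat.Coprime.dvd_of_dvd_mul_left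
      (by simpa using Nat.coprime_pow_primes 2 i Nat.prime_three (by norm_num : Nat.Prime 7) (by norm_num)) h9).trans hr
    norm_num at h96

end Cfsg.Agent.H59.PSLSeven
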