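import Cfsg.Agent.H59.PSLSeven.Outer
import Cfsg.Agent.H59.PSLSeven.Elementary
import Cfsg.Agent.H28.BaerSuzuki
import Cfsg.Agent.H77.TransferTwo

/-!
# `PSL(2,7)` by element orders: an elementary abelian subgroup outside the 2-core
-/

set_option autoImplicit false
set_option linter.style.haveILetI false
set_option linter.unusedSectionVars false

namespace Cfsg.Agent.H59.PSLSeven

open Subgroup

local instance factTwoBad : Fact (Nat.Prime 2) := ⟨Nat.prime_two⟩

variable {G : Type*} [Group G] [Finite G]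

theorem exists_two_pow {Q : Subgroup G} (hQ : IsPGroup 2 Q) {x : G} (hx : x ∈ Q) :
    ∃ k, orderOf x = 2 ^ k := by
  obtain ⟨k, hk⟩ := IsPGroup.iff_orderOf.1 hQ ⟨x, hx⟩
  exact ⟨k, by rwa [Subgroup.orderOf_mk] at hk⟩

theorem commute_iff_conj {a x : G} : a * x * a⁻¹ = x ↔ Commute a x := mul_inv_eq_iff_eq_mul

/-- An offender outside the 2-core yields a self-centralising four-group. -/
theorem bad (h : Hyp G) (hG2 : ∀ H : Subgroup G, H.index ≠ 2) (T : Sylow 2 G)
    {N Q P : Subgroup G} (L : Core N Q) (hP : P = (T : Subgroup G) ⊓ N)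
    (hPmax : ∀ R : Subgroup G, IsPGroup 2 R → P ≤ R → R ≤ N → R = P)
    (hmax : ∀ Y : Subgroup G, Y ≤ T → Y ≠ ⊥ → N ≤ normalizer (Y : Set G) →
      (T : Subgroup G) ⊓ normalizer (Y : Set G) ≤ N)
    {A : Subgroup G} (hA : MaxEA P A) {a : G} (haA : a ∈ A) (haQ : a ∉ Q) :
    ∃ V : Subgroup G, V ≤ T ∧ Nat.card V = 4 ∧ EA V ∧
      (∀ x ∈ (T : Subgroup G), (∀ v ∈ V, Commute x v) → x ∈ V) ∧ ¬ (T : Subgroup G) ≤ V := by
  obtain ⟨hAP, hAe, hAmax⟩ := hA
  have hPN : P ≤ N := hP.le.trans inf_le_right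
  have hPT : P ≤ T := hP.le.trans inf_le_left
  have hPp : IsPGroup 2 P := T.2.to_le hPT
  have hQP : Q ≤ P := le_sup_right.trans
    (hPmax _ (hPp.to_sup_of_normal_right' L.pg (hPN.trans L.norm)) le_sup_left (sup_le hPN L.le)).le
  have haP : a ∈ P := hAP haA
  have ha1 : a ≠ 1 := fun e => haQ (e ▸ one_mem Q)
  have ha2 : orderOf a = 2 := orderOf_two_of_sq (hAe a haA) ha1
  have hai : a⁻¹ = a := inv_eq_self_of_sq (hAe a haA)
  obtain ⟨r, y, hr, hr2, hyN, hyo, hinv, hab, hr3sq⟩ := outer h L hPp hPN haP ha2 haQ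
  have hconjQ : ∀ g ∈ N, ∀ x ∈ Q, g * x * g⁻¹ ∈ Q :=
    fun g hg x hx => (mem_normalizer_iff.1 (L.norm hg) x).1 hx
  have hfp : ∀ x ∈ Q, Commute y x → x = 1 := fun x hx hc => by
    obtain ⟨k, hk⟩ := exists_two_pow L.pg hx
    exact h.not_commute_two hr hr2 hk hyo hc.symm
  -- involutions of the centre of Q
  let V : Subgroup G :=
    { carrier := {x | x ∈ Q ∧ x * x = 1 ∧ ∀ q ∈ Q, Commute x q}
      one_mem' := ⟨one_mem Q, one_mul 1, fun q _ => Commute.one_left q⟩
      mul_mem' := fun {u v} hu hv => ⟨mul_mem hu.1 hv.1, by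
        rw [show u * v * (u * v) = u * (v * u) * v by group, (hv.2.2 u hu.1).eq,
          show u * (u * v) * v = (u * u) * (v * v) by group, hu.2.1, hv.2.1, one_mul],
        fun q hq => (hu.2.2 q hq).mul_left (hv.2.2 q hq)⟩
      inv_mem' := fun {u} hu => by rw [inv_eq_self_of_sq hu.2.1]; exact hu }
  have memV : ∀ {x : G}, x ∈ V ↔ x ∈ Q ∧ x * x = 1 ∧ ∀ q ∈ Q, Commute x q := Iff.rfl
  have hVQ : V ≤ Q := fun x hx => hx.1
  have hVe : EA V := fun x hx => hx.2.1
  have hV1 : V ≠ ⊥ := by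
    haveI : Nontrivial Q := (nontrivial_iff_ne_bot Q).2 L.ne
    haveI := L.pg.center_nontrivial
    obtain ⟨v, hv, hvo⟩ := H86.AllPrimePowerOrder.exists_orderOf_eq (G := Q)
      (L.pg.to_subgroup (Subgroup.center Q)) ((nontrivial_iff_ne_bot _).1 inferInstance)
    rw [← Subgroup.orderOf_coe] at hvo
    refine fun e => (sq_of_orderOf_two hvo).2 (mem_bot.1 (e ▸ memV.2 ⟨v.2, (sq_of_orderOf_two hvo).1,
      fun q hq => (congrArg Subtype.val (mem_center_iff.1 hv ⟨q, hq⟩)).symm⟩))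
  have hVnorm : N ≤ normalizer (V : Set G) := fun g hg => mem_normalizer_fintype fun x hx => by
    refine ⟨hconjQ g hg x hx.1, ?_, fun q hq => ?_⟩
    · rw [show g * x * g⁻¹ * (g * x * g⁻¹) = g * (x * x) * g⁻¹ by group, hx.2.1, mul_one,
        mul_inv_cancel]
    · have hq' := hconjQ g⁻¹ (inv_mem hg) q hq
      rw [inv_inv] at hq'
      have := (hx.2.2 _ hq').map (MulAut.conj g).toMonoidHom
      simpa [MulAut.conj_apply, mul_assoc] using this
  -- the bound on V
  set A0 := A ⊓ Q with hA0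
  have hA2 : Nat.card A ≤ 2 * Nat.card A0 := card_le_two_mul A A0 a fun x hx hx0 =>
    ⟨mul_mem haA hx, hab x (hAP hx) (by rw [hAe x hx]; exact one_mem Q) fun hq => hx0 ⟨hx, hq⟩⟩
  set A2 := A0 ⊔ V with hA2def
  have hA2e : EA A2 := (hAe.mono inf_le_left).sup hVe fun u hu v hv => (hv.2.2 u hu.2).symm
  have hA2le : Nat.card A2 ≤ 2 * Nat.card A0 :=
    (hAmax A2 (sup_le (inf_le_right.trans hQP) (hVQ.trans hQP)) hA2e).trans hA2
  have hidx : ∀ x ∈ V, ∀ x' ∈ V, x ∉ A0 → x' ∉ A0 → x * x' ∈ A0 := by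
    intro x hx x' hx' hxA hx'A
    have h1 := (A0.subgroupOf A2).card_mul_index
    rw [Nat.card_congr (subgroupOfEquivOfLe (le_sup_left : A0 ≤ A2)).toEquiv] at h1
    have hne0 : (A0.subgroupOf A2).index ≠ 0 := index_ne_zero_of_finite
    have hne1 : (A0.subgroupOf A2).index ≠ 1 := fun e => hxA
      (mem_subgroupOf.1 ((index_eq_one.1 e).symm ▸ mem_top (⟨x, mem_sup_right hx⟩ : A2)))
    have h2 : (A0.subgroupOf A2).index = 2 := by
      have : (A0.subgroupOf A2).index ≤ 2 := by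
        by_contra hcon
        have := Nat.mul_le_mul_left (Nat.card A0) (show 3 ≤ (A0.subgroupOf A2).index by omega)
        have := (Nat.card_pos : 0 < Nat.card A0)
        omega
      omega
    exact mem_subgroupOf.1 ((mul_mem_iff_of_index_two h2
      (a := (⟨x, mem_sup_right hx⟩ : A2)) (b := ⟨x', mem_sup_right hx'⟩)).2
      ⟨fun hh => absurd (mem_subgroupOf.1 hh) hxA, fun hh => absurd (mem_subgroupOf.1 hh) hx'A⟩)
  set Cv := V ⊓ centralizer ({a} : Set G) with hCv
  have hA0Cv : ∀ x ∈ A0, x ∈ V → x ∈ Cv := fun x hx hxV =>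
    ⟨hxV, mem_centralizer_singleton_iff.2 (hAe.comm hx.1 haA).eq⟩
  have hVCv : Nat.card V ≤ 2 * Nat.card Cv := by
    by_cases hle : V ≤ Cv
    · have := Subgroup.card_le_of_le hle; omega
    obtain ⟨x0, hx0, hx0C⟩ := SetLike.not_le_iff_exists.1 hle
    exact card_le_two_mul V Cv x0 fun x hx hxC => hA0Cv _ (hidx x0 hx0 x hx
      (fun hh => hx0C (hA0Cv _ hh hx0)) (fun hh => hxC (hA0Cv _ hh hx))) (mul_mem hx0 hx)
  have hCvsq : Nat.card Cv * Nat.card Cv ≤ Nat.card V := by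
    refine card_sq_le inf_le_left (fun x hx => (mem_normalizer_iff.1 (hVnorm hyN) x).1 hx.1)
      fun c hc hyc => ?_
    obtain ⟨k, hk⟩ := exists_two_pow L.pg hc.1.1
    exact inverted_conj_eq_one h hr hr2 hyo hinv (mem_centralizer_singleton_iff.1 hc.2).symm
      (mem_centralizer_singleton_iff.1 hyc.2).symm hk
  obtain ⟨z, hzCv, hz1⟩ : ∃ z ∈ Cv, z ≠ 1 := by
    obtain ⟨v, hv, hv1⟩ := (Subgroup.ne_bot_iff_exists_ne_one.1 hV1) |> fun ⟨⟨v, hv⟩, hv1⟩ =>
      (⟨v, hv, fun e => hv1 (Subtype.ext e)⟩ : ∃ v ∈ V, v ≠ 1)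
    set w := v * (a * v * a⁻¹)
    have havV : a * v * a⁻¹ ∈ V := (mem_normalizer_iff.1 (hVnorm (hPN haP)) v).1 hv
    have hww : a * w * a⁻¹ = w := by
      show a * (v * (a * v * a⁻¹)) * a⁻¹ = v * (a * v * a⁻¹)
      rw [show a * (v * (a * v * a⁻¹)) * a⁻¹ = (a * v * a⁻¹) * ((a * a) * v * (a * a)⁻¹) by group,
        hAe a haA]
      simpa using (hVe.comm havV hv).eq
    by_cases hw1 : w = 1
    · refine ⟨v, ⟨hv, mem_centralizer_singleton_iff.2 (commute_iff_conj.1 ?_).symm.eq⟩, hv1⟩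
      rw [eq_inv_of_mul_eq_one_right hw1, inv_eq_self_of_sq (hVe v hv)]
    · exact ⟨w, ⟨mul_mem hv havV, mem_centralizer_singleton_iff.2
        (commute_iff_conj.1 hww).symm.eq⟩, hw1⟩
  have hzV : z ∈ V := hzCv.1
  have hza : Commute z a := mem_centralizer_singleton_iff.1 hzCv.2
  have hCv2 : 2 ≤ Nat.card Cv := by
    rw [← orderOf_two_of_sq (hVe z hzV) hz1, ← Nat.card_zpowers]
    exact Subgroup.card_le_of_le (zpowers_le.2 hzCv)
  have hCvle : Nat.card Cv ≤ 2 := by
    by_contra hcon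
    have := Nat.mul_le_mul_right (Nat.card Cv) (show 3 ≤ Nat.card Cv by omega)
    omega
  have hV4 : Nat.card V = 4 := by
    rw [show Nat.card Cv = 2 by omega] at hCvsq hVCv
    omega
  -- the orbit of z
  have hyr : y ^ r = 1 := hyo ▸ pow_orderOf_eq_one y
  have horbmem : ∀ i : ℕ, y ^ i * z * (y ^ i)⁻¹ ∈ V := fun i =>
    (mem_normalizer_iff.1 (hVnorm (pow_mem hyN i)) z).1 hzV
  have hsep : ∀ i j : ℕ, i < j → j < r → y ^ i * z * (y ^ i)⁻¹ ≠ y ^ j * z * (y ^ j)⁻¹ := by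
    intro i j hij hjr e
    have hc : y ^ (j - i) * z * (y ^ (j - i))⁻¹ = z := by
      conv_lhs => rw [show y ^ (j - i) = (y ^ i)⁻¹ * y ^ j by
        rw [eq_inv_mul_iff_mul_eq, ← pow_add, Nat.add_sub_cancel' hij.le]]
      rw [show (y ^ i)⁻¹ * y ^ j * z * ((y ^ i)⁻¹ * y ^ j)⁻¹ =
        (y ^ i)⁻¹ * (y ^ j * z * (y ^ j)⁻¹) * y ^ i by group, ← e]
      group
    have ho : orderOf (y ^ (j - i)) = r := by
      rw [orderOf_pow' _ (by omega), hyo, Nat.Coprime.gcd_eq_one
        ((hr.coprime_iff_not_dvd).2 fun hd => by have := Nat.le_of_dvd (by omega) hd; omega),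
        Nat.div_one]
    exact hz1 (h.not_commute_two (k := 1) hr hr2 (by rw [orderOf_two_of_sq (hVe z hzV) hz1]; rfl) ho
      (commute_iff_conj.1 hc).symm)
  let f : Option (Fin r) → V := fun o =>
    o.elim 1 fun i => ⟨y ^ (i : ℕ) * z * (y ^ (i : ℕ))⁻¹, horbmem i⟩
  have hne1 : ∀ i : Fin r, y ^ (i : ℕ) * z * (y ^ (i : ℕ))⁻¹ ≠ 1 := fun i e => hz1 (by
    rwa [conj_eq_one_iff] at e)
  have hf : Function.Injective f := by
    rintro (_ | i) (_ | j) e
    · rfl
    · exact absurd (congrArg Subtype.val e).symm (hne1 j)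
    · exact absurd (congrArg Subtype.val e) (hne1 i)
    · have e' : y ^ (i : ℕ) * z * (y ^ (i : ℕ))⁻¹ = y ^ (j : ℕ) * z * (y ^ (j : ℕ))⁻¹ :=
        congrArg Subtype.val e
      rcases lt_trichotomy (i : ℕ) j with hlt | heq | hgt
      · exact absurd e' (hsep _ _ hlt j.2)
      · exact congrArg some (Fin.ext heq)
      · exact absurd e'.symm (hsep _ _ hgt i.2)
  have hr3 : r = 3 := by
    have := Nat.card_le_card_of_injective f hf
    rw [hV4, Nat.card_eq_fintype_card, Fintype.card_option, Fintype.card_fin] at this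
    have := hr.two_le
    omega
  subst hr3
  have horb : ∀ v ∈ V, v ≠ 1 → ∃ i : ℕ, v = y ^ i * z * (y ^ i)⁻¹ := by
    intro v hv hv1
    have hb : Function.Bijective f := (Nat.bijective_iff_injective_and_card f).2
      ⟨hf, by rw [hV4, Nat.card_eq_fintype_card, Fintype.card_option, Fintype.card_fin]⟩
    obtain ⟨o, ho⟩ := hb.2 ⟨v, hv⟩
    rcases o with _ | i
    · exact absurd (congrArg Subtype.val ho).symm hv1
    · exact ⟨i, (congrArg Subtype.val ho).symm⟩
  -- at most four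
  have htri : ∀ x ∈ Q, x * x = 1 →
      y * (y * x * y⁻¹) * y⁻¹ = x * (y * x * y⁻¹) ∧ Commute x (y * x * y⁻¹) := by
    intro x hx hxx
    obtain ⟨h1, h2⟩ := fpf_three hyr (hconjQ y hyN) hfp hx
    refine ⟨?_, h2⟩
    rw [eq_inv_of_mul_eq_one_right h1, mul_inv_rev,
      show (y * x * y⁻¹)⁻¹ = y * x⁻¹ * y⁻¹ by group, inv_eq_self_of_sq hxx]
    exact h2.symm.eq
  set B := A0.map (MulAut.conj y).toMonoidHom with hB
  have hBmem : ∀ b ∈ B, ∃ x ∈ A0, b = y * x * y⁻¹ := by
    rintro _ ⟨x, hx, rfl⟩; exact ⟨x, hx, rfl⟩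
  have hBQ : B ≤ Q := fun b hb => by
    obtain ⟨x, hx, rfl⟩ := hBmem b hb
    exact hconjQ y hyN x hx.2
  have hABe : EA (A0 ⊔ B) := by
    refine (hAe.mono inf_le_left).sup ((hAe.mono inf_le_left).map _) fun v hv b hb => ?_
    obtain ⟨u, hu, rfl⟩ := hBmem b hb
    have huv : u * v * (u * v) = 1 := hAe _ (mul_mem hu.1 hv.1)
    have h1 := (htri u hu.2 (hAe u hu.1)).1
    have h2 := (htri v hv.2 (hAe v hv.1)).1
    have h3 := (htri (u * v) (mul_mem hu.2 hv.2) huv).1
    rw [show y * (y * (u * v) * y⁻¹) * y⁻¹ = y * (y * u * y⁻¹) * y⁻¹ * (y * (y * v * y⁻¹) * y⁻¹) by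
      group, h1, h2, show u * v * (y * (u * v) * y⁻¹) =
        u * (v * (y * u * y⁻¹)) * (y * v * y⁻¹) by group,
      show u * (y * u * y⁻¹) * (v * (y * v * y⁻¹)) = u * ((y * u * y⁻¹) * v) * (y * v * y⁻¹) by
        group] at h3
    exact (mul_left_cancel (mul_right_cancel h3)).symm
  have hA04 : Nat.card A0 * Nat.card A0 ≤ 2 * Nat.card A0 := by
    refine ((card_sq_le (Q := A0 ⊔ B) le_sup_left (fun x hx => mem_sup_right ⟨x, hx, rfl⟩)
      fun c hc hyc => ?_).trans (hAmax _ (sup_le (inf_le_right.trans hQP) (hBQ.trans hQP)) hABe)).trans hA2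
    obtain ⟨k, hk⟩ := exists_two_pow L.pg hc.2
    exact inverted_conj_eq_one h hr hr2 hyo hinv (hAe.comm haA hc.1) (hAe.comm haA hyc.1) hk
  have hA0le : Nat.card A0 ≤ 2 := Nat.le_of_mul_le_mul_right hA04 Nat.card_pos
  have hinvQ : ∀ x ∈ Q, x * x = 1 → x ∈ V := by
    intro x hx hxx
    have he : EA (V ⊔ zpowers x) := hVe.sup (EA.zpowers hxx) fun v hv u hu => by
      obtain ⟨i, rfl⟩ := mem_zpowers_iff.1 hu
      exact (hv.2.2 x hx).zpow_right i
    have hle := hAmax _ (sup_le (hVQ.trans hQP) (zpowers_le.2 (hQP hx))) he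
    have := Subgroup.eq_of_le_of_card_ge (le_sup_left : V ≤ V ⊔ zpowers x) (by omega)
    exact this.symm ▸ mem_sup_right (mem_zpowers x)
  have hcenQ : ∀ x ∈ N, (∀ q ∈ Q, Commute x q) → x ∈ Q := by
    intro x hx hc
    obtain ⟨v, hv, hvo⟩ := H86.AllPrimePowerOrder.exists_orderOf_eq L.pg L.ne
    have hC : IsPGroup 2 (centralizer (Q : Set G) ⊓ N : Subgroup G) :=
      h.epo.isPGroup_centralizer hvo _ fun c hc => ((mem_centralizer_iff.1 hc.1) v hv).symm
    refine L.max _ inf_le_right hC (fun g hg => mem_normalizer_fintype fun u hu => ?_)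
      ⟨mem_centralizer_iff.2 fun q hq => (hc q hq).eq.symm, hx⟩
    refine ⟨mem_centralizer_iff.2 fun q hq => ?_, N.mul_mem (N.mul_mem hg hu.2) (N.inv_mem hg)⟩
    have hq' := hconjQ g⁻¹ (inv_mem hg) q hq
    rw [inv_inv] at hq'
    have e := mem_centralizer_iff.1 hu.1 _ hq'
    calc q * (g * u * g⁻¹) = g * ((g⁻¹ * q * g) * u) * g⁻¹ := by group
      _ = g * u * g⁻¹ * q := by rw [e]; group
  -- it suffices that Q = V
  suffices hQV : Q ≤ V by
    refine ⟨V, hVQ.trans (hQP.trans hPT), hV4, hVe, fun x hx hc => ?_, fun hle => haQ (hVQ (hle (hPT haP)))⟩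
    have hxn : x ∈ normalizer (V : Set G) := mem_normalizer_fintype fun v hv => by
      rw [commute_iff_conj.2 (hc v hv)]; exact hv
    exact hQV.antisymm hVQ ▸ hcenQ x (hmax V (hVQ.trans (hQP.trans hPT)) hV1 hVnorm ⟨hx, hxn⟩)
      fun q hq => hc q (hQV hq)
  by_cases hPT' : P = T
  · -- the local subgroup contains a Sylow subgroup
    have hcov : ∀ b ∈ P, b ∉ Q → a * b ∈ Q := fun b hb hbQ => hab b hb (hr3sq rfl b hb) hbQ
    have hrel : Q.relIndex (T : Subgroup G) = 2 := by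
      refine index_eq_two_iff.2 ⟨⟨a, hPT haP⟩, fun b => ?_⟩
      simp only [mem_subgroupOf, Subgroup.coe_mul]
      by_cases hb : (b : G) ∈ Q
      · refine Or.inr ⟨hb, fun hh => haQ ?_⟩
        exact (Subgroup.mul_mem_cancel_left Q hb).1 hh
      · refine Or.inl ⟨?_, hb⟩
        have hbP : (b : G) ∈ P := hPT' ▸ b.2
        have h1 := hconjQ a (hPN haP) _ (hcov b hbP hb)
        rwa [show a * (a * (b : G)) * a⁻¹ = (a * a) * b * a⁻¹ by group, hAe a haA, one_mul, hai]
          at h1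
    obtain ⟨g, hg⟩ := H77.exists_conj_mem_of_transfer hG2 T Q (hQP.trans hPT) hrel a 1
      (by rw [ha2, pow_one]) fun k g hk hkd _ => by
        rw [pow_one] at hkd
        obtain rfl : k = 2 := by have := Nat.le_of_dvd two_pos hkd; omega
        rw [pow_two, hAe a haA, mul_one, inv_mul_cancel]; exact one_mem Q
    obtain ⟨i, hi⟩ := horb _ (hinvQ _ hg (by
      rw [show g * a * g⁻¹ * (g * a * g⁻¹) = g * (a * a) * g⁻¹ by group, hAe a haA, mul_one,
        mul_inv_cancel])) (fun e => ha1 (conj_eq_one_iff.1 e))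
    obtain ⟨g', hgz⟩ : ∃ g' : G, g' * a * g'⁻¹ = z := ⟨(y ^ i)⁻¹ * g, by
      rw [show (y ^ i)⁻¹ * g * a * ((y ^ i)⁻¹ * g)⁻¹ = (y ^ i)⁻¹ * (g * a * g⁻¹) * y ^ i by group, hi]
      group⟩
    have hCz : centralizer ({z} : Set G) = (T : Subgroup G) := by
      refine T.3 (h.epo.isPGroup_centralizer (orderOf_two_of_sq (hVe z hzV) hz1) _
        fun c hc => mem_centralizer_singleton_iff.1 hc) fun b hb => ?_
      refine mem_centralizer_singleton_iff.2 ?_
      by_cases hbQ : b ∈ Q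
      · exact (hzV.2.2 b hbQ).symm.eq
      · have h1 := hza.symm.mul_left ((hzV.2.2 _ (hcov b (hPT' ▸ hb) hbQ)).symm)
        rw [← mul_assoc, hAe a haA, one_mul] at h1
        exact h1.eq
    have hgN : g' ∉ N := fun hgN => haQ (by
      have h1 := hconjQ g'⁻¹ (inv_mem hgN) z (hVQ hzV)
      rwa [← hgz, show g'⁻¹ * (g' * a * g'⁻¹) * g'⁻¹⁻¹ = a by group] at h1)
    have hTN : (T : Subgroup G) ≤ N := hPT' ▸ hPN
    have hsmall : ∀ c ∈ Q, Commute a c → c ∈ Cv := by
      intro c hcQ hca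
      by_contra hcC
      obtain ⟨k, hk⟩ := exists_two_pow L.pg hcQ
      have hk2 : 2 ≤ k := by
        by_contra hk'
        refine hcC ⟨hinvQ c hcQ ?_, mem_centralizer_singleton_iff.2 hca.symm.eq⟩
        rw [← pow_two, ← orderOf_dvd_iff_pow_eq_one, hk]
        exact (pow_dvd_pow 2 (show k ≤ 1 by omega)).trans (by norm_num)
      set e := c ^ 2 ^ (k - 2) with he
      have heQ : e ∈ Q := pow_mem hcQ _
      have hea : Commute a e := hca.pow_right _
      have heo : orderOf e = 4 := by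
        rw [he, orderOf_pow' _ (pow_ne_zero _ two_ne_zero), hk, Nat.gcd_eq_right (pow_dvd_pow 2 (by omega)),
          Nat.pow_div (by omega) two_pos, show k - (k - 2) = 2 by omega]
        norm_num
      have he2 : orderOf (e * e) = 2 := by
        rw [← pow_two, orderOf_pow' _ two_ne_zero, heo]; rfl
      have hee : e * e = z := eq_of_card_le_two hCvle
        (show e * e ∈ Cv from ⟨hinvQ _ (mul_mem heQ heQ) (sq_of_orderOf_two he2).1,
          mem_centralizer_singleton_iff.2 (hea.mul_right hea).symm.eq⟩) hzCv (sq_of_orderOf_two he2).2 hz1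
      have hdT : g' * e * g'⁻¹ ∈ (T : Subgroup G) := by
        rw [← hCz, mem_centralizer_singleton_iff, ← hgz]
        exact ((hea.map (MulAut.conj g').toMonoidHom).symm).eq
      have hd2 := hr3sq rfl _ (hPT' ▸ hdT)
      rw [show g' * e * g'⁻¹ * (g' * e * g'⁻¹) = g' * (e * e) * g'⁻¹ by group, hee] at hd2
      obtain ⟨m, hm⟩ := horb _ (hinvQ _ hd2 (by
        rw [show g' * z * g'⁻¹ * (g' * z * g'⁻¹) = g' * (z * z) * g'⁻¹ by group, hVe z hzV, mul_one,
          mul_inv_cancel])) (fun e' => hz1 (conj_eq_one_iff.1 e'))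
      apply hgN
      have hc' : (y ^ m)⁻¹ * g' ∈ centralizer ({z} : Set G) := by
        refine mem_centralizer_singleton_iff.2 (commute_iff_conj.1 ?_).eq
        rw [show (y ^ m)⁻¹ * g' * z * ((y ^ m)⁻¹ * g')⁻¹ = (y ^ m)⁻¹ * (g' * z * g'⁻¹) * y ^ m by group,
          hm]
        group
      rw [hCz] at hc'
      have := mul_mem (pow_mem hyN m) (hTN hc')
      rwa [mul_inv_cancel_left] at this
    by_contra hQV
    obtain ⟨q0, hq0, hq0V⟩ := SetLike.not_le_iff_exists.1 hQV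
    let D : Subgroup G :=
      { carrier := {x | x ∈ V ∨ a * x ∈ V}
        one_mem' := Or.inl (one_mem V)
        mul_mem' := by
          intro u v hu hv
          have hn : ∀ w ∈ V, a * w * a ∈ V := fun w hw => by
            have := (mem_normalizer_iff.1 (hVnorm (hPN haP)) w).1 hw
            rwa [hai] at this
          rcases hu with hu | hu <;> rcases hv with hv | hv
          · exact Or.inl (mul_mem hu hv)
          · refine Or.inr ?_
            have := mul_mem (hn u hu) hv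
            rwa [show a * u * a * (a * v) = a * u * (a * a) * v by group, hAe a haA, mul_one,
              mul_assoc] at this
          · exact Or.inr (by rw [← mul_assoc]; exact mul_mem hu hv)
          · refine Or.inl ?_
            have := mul_mem (hn _ hu) hv
            rwa [show a * (a * u) * a * (a * v) = (a * a) * u * (a * a) * v by group, hAe a haA,
              mul_one, one_mul] at this
        inv_mem' := by
          intro u hu
          rcases hu with hu | hu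
          · exact Or.inl (inv_mem hu)
          · refine Or.inr ?_
            have := (mem_normalizer_iff.1 (hVnorm (hPN haP)) _).1 (inv_mem hu)
            rwa [mul_inv_rev, hai, show a * (u⁻¹ * a) * a = a * u⁻¹ * (a * a) by group, hAe a haA,
              mul_one] at this }
    have haD : a ∈ D := Or.inr (by rw [hAe a haA]; exact one_mem V)
    have hDT : D ≤ (T : Subgroup G) := by
      rintro u (hu | hu)
      · exact hPT (hQP (hVQ hu))
      · have := mul_mem (hPT haP) (hPT (hQP (hVQ hu)))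
        rwa [← mul_assoc, hAe a haA, one_mul] at this
    have hDne : D ≠ (T : Subgroup G) := fun e => by
      rcases (e ▸ hPT (hQP hq0) : q0 ∈ D) with hh | hh
      · exact hq0V hh
      · exact haQ ((Subgroup.mul_mem_cancel_right Q hq0).1 (hVQ hh))
    obtain ⟨b, hbT, hbD, hbn⟩ := H28.exists_mem_normalizer_not_mem T.2 hDT hDne
    obtain ⟨q, hqQ, hqD, hqn⟩ : ∃ q ∈ Q, q ∉ D ∧ q ∈ normalizer (D : Set G) := by
      by_cases hb : b ∈ Q
      · exact ⟨b, hb, hbD, hbn⟩
      · exact ⟨a * b, hcov b (hPT' ▸ hbT) hb, fun hh => hbD ((Subgroup.mul_mem_cancel_left D haD).1 hh),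
          mul_mem (Subgroup.le_normalizer haD) hbn⟩
    have hqV : q ∉ V := fun hh => hqD (Or.inl hh)
    have hqa : q * a * q⁻¹ ∈ D := (mem_normalizer_iff.1 hqn a).1 haD
    have hd : a * (q * a * q⁻¹) ∈ V := by
      refine hqa.resolve_left fun hh => haQ ?_
      have := hconjQ q⁻¹ (inv_mem (L.le hqQ)) _ (hVQ hh)
      rwa [show q⁻¹ * (q * a * q⁻¹) * q⁻¹⁻¹ = a by group] at this
    set d := a * (q * a * q⁻¹) with hddef
    have hdC : d ∈ Cv := by
      refine ⟨hd, mem_centralizer_singleton_iff.2 ?_⟩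
      have e1 : a * d * a⁻¹ = d⁻¹ := by
        rw [hddef, hai, show a * (a * (q * a * q⁻¹)) * a = (a * a) * (q * a * q⁻¹) * a by group,
          mul_inv_rev, mul_inv_rev, mul_inv_rev, inv_inv, hai, hAe a haA, one_mul]
        simp only [mul_assoc]
      rw [inv_eq_self_of_sq (hVe d hd)] at e1
      exact (commute_iff_conj.1 e1).symm.eq
    by_cases hd1 : d = 1
    · refine hqV (hsmall q hqQ ?_).1
      have e : q * a * q⁻¹ = a := by
        rw [eq_inv_of_mul_eq_one_right hd1]; exact hai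
      exact (commute_iff_conj.1 e).symm
    have hdz : d = z := eq_of_card_le_two hCvle hdC hzCv hd1 hz1
    obtain ⟨u, hu, huC⟩ := SetLike.not_le_iff_exists.1
      (show ¬ V ≤ Cv from fun hle => by have := Subgroup.card_le_of_le hle; omega)
    have hau : u * a * u⁻¹ = a * z := by
      have hu' : a * u * a⁻¹ ∈ V := (mem_normalizer_iff.1 (hVnorm (hPN haP)) u).1 hu
      have hc : a * (u * a * u⁻¹) = z := by
        refine eq_of_card_le_two hCvle ⟨?_, ?_⟩ hzCv (fun e => huC ⟨hu, ?_⟩) hz1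
        · have := mul_mem hu' (inv_mem hu)
          rwa [hai, show a * u * a * u⁻¹ = a * (u * a * u⁻¹) by group] at this
        · refine mem_centralizer_singleton_iff.2 (commute_iff_conj.1 ?_).symm.eq
          rw [hai, show a * (a * (u * a * u⁻¹)) * a = (a * a) * (u * a * u⁻¹) * a by group, hAe a haA,
            one_mul, show u * a * u⁻¹ * a = u * (a * u⁻¹ * a⁻¹) by rw [hai]; group]
          rw [show a * (u * a * u⁻¹) = a * u * a⁻¹ * u⁻¹ by rw [hai]; group,
            show a * u⁻¹ * a⁻¹ = (a * u * a⁻¹)⁻¹ by group, inv_eq_self_of_sq (hVe _ hu'),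
            inv_eq_self_of_sq (hVe u hu)]
          exact (hVe.comm hu hu').eq
        · refine mem_centralizer_singleton_iff.2 ?_
          have e' : u * a * u⁻¹ = a := by rw [eq_inv_of_mul_eq_one_right e]; exact hai
          exact (commute_iff_conj.1 e').eq
      rw [← hc, ← mul_assoc, hAe a haA, one_mul]
    refine hqV ((Subgroup.mul_mem_cancel_left V hu).1 (hsmall (u * q) (mul_mem (hVQ hu) hqQ) ?_).1)
    refine (commute_iff_conj.1 ?_).symm
    have hqa' : q * a * q⁻¹ = a * z := by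
      rw [← hdz, hddef, ← mul_assoc, hAe a haA, one_mul]
    rw [show u * q * a * (u * q)⁻¹ = u * (q * a * q⁻¹) * u⁻¹ by group, hqa',
      show u * (a * z) * u⁻¹ = (u * a * u⁻¹) * (u * z * u⁻¹) by group, hau,
      commute_iff_conj.2 (hVe.comm hu hzV), mul_assoc, hVe z hzV, mul_one]
  · -- the local subgroup contains no Sylow subgroup
    obtain ⟨t, htT, htP, htn⟩ := H28.exists_mem_normalizer_not_mem T.2 hPT hPT'
    set V' := V.map (MulAut.conj t).toMonoidHom with hV'
    have hV'P : V' ≤ P := by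
      rintro _ ⟨v, hv, rfl⟩
      exact (mem_normalizer_iff.1 htn v).1 (hQP (hVQ hv))
    have hV'e : EA V' := hVe.map _
    obtain ⟨v, hvV', hvQ⟩ : ∃ v ∈ V', v ∉ Q := by
      by_contra hcon
      push Not at hcon
      refine htP ?_
      rw [hP]
      refine ⟨htT, hmax V (hVQ.trans (hQP.trans hPT)) hV1 hVnorm ⟨htT, ?_⟩⟩
      exact mem_normalizer_fintype fun u hu =>
        hinvQ _ (hcon _ ⟨u, hu, rfl⟩) (hV'e _ ⟨u, hu, rfl⟩)
    obtain ⟨r', y', hr', hr2', hy'N, hy'o, hinv', hab', -⟩ := outer h L hPp hPN (hV'P hvV')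
      (orderOf_two_of_sq (hV'e v hvV') fun e => hvQ (e ▸ one_mem Q)) hvQ
    set C := Q ⊓ centralizer ({v} : Set G) with hC
    have hCsq : Nat.card C * Nat.card C ≤ Nat.card Q := by
      refine card_sq_le inf_le_left (fun x hx => hconjQ y' hy'N x hx.1) fun c hc hyc => ?_
      obtain ⟨k, hk⟩ := exists_two_pow L.pg hc.1
      exact inverted_conj_eq_one h hr' hr2' hy'o hinv' (mem_centralizer_singleton_iff.1 hc.2).symm
        (mem_centralizer_singleton_iff.1 hyc.2).symm hk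
    have hVV' : Nat.card (V ⊓ V' : Subgroup G) ≤ 2 := by
      have hd := Subgroup.card_dvd_of_le (inf_le_left : V ⊓ V' ≤ V)
      rw [hV4] at hd
      have hne : Nat.card (V ⊓ V' : Subgroup G) ≠ 4 := fun e => by
        have h1 := Subgroup.eq_of_le_of_card_ge (inf_le_left : V ⊓ V' ≤ V) (by rw [hV4, e])
        have h2 := Subgroup.eq_of_le_of_card_ge (inf_le_right : V ⊓ V' ≤ V')
          (by rw [hV', card_map_conj, hV4, e])
        exact hvQ (hVQ (h1 ▸ h2.symm ▸ hvV'))
      have := Nat.le_of_dvd (by norm_num) hd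
      have h3 : Nat.card (V ⊓ V' : Subgroup G) ≠ 3 := fun e => by rw [e] at hd; norm_num at hd
      omega
    have hV'n : ∀ q ∈ Q, ∀ u ∈ V', q * u * q⁻¹ ∈ V' := by
      rintro q hq _ ⟨u, hu, rfl⟩
      have hqt : t⁻¹ * q * t ∈ N := hPN (by
        have := (mem_normalizer_iff.1 (inv_mem htn) q).1 (hQP hq)
        rwa [inv_inv] at this)
      exact ⟨_, (mem_normalizer_iff.1 (hVnorm hqt) u).1 hu, by simp [mul_assoc]⟩
    have huniq : ∀ u ∈ V', ∀ u' ∈ V', u ∉ Q → u' ∉ Q → u ≠ v → u' ≠ v → u = u' := by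
      intro u hu u' hu' huQ hu'Q huv hu'v
      have key : ∀ w ∈ V', w ∉ Q → w ≠ v → v * w ∈ V ⊓ V' ∧ v * w ≠ 1 := fun w hw hwQ hwv =>
        ⟨⟨hinvQ _ (hab' w (hV'P hw) (by rw [hV'e w hw]; exact one_mem Q) hwQ)
          (hV'e _ (mul_mem hvV' hw)), mul_mem hvV' hw⟩,
          fun e => hwv (by rw [eq_inv_of_mul_eq_one_right e, inv_eq_self_of_sq (hV'e v hvV')])⟩
      obtain ⟨h1, h1'⟩ := key u hu huQ huv
      obtain ⟨h2, h2'⟩ := key u' hu' hu'Q hu'v
      exact mul_left_cancel (eq_of_card_le_two hVV' h1 h2 h1' h2')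
    have hQC : Nat.card Q ≤ 2 * Nat.card C := by
      by_cases hle : Q ≤ C
      · have := Subgroup.card_le_of_le hle; omega
      obtain ⟨q0, hq0, hq0C⟩ := SetLike.not_le_iff_exists.1 hle
      refine card_le_two_mul Q C q0⁻¹ fun q hq hqC => ⟨Q.mul_mem (Q.inv_mem hq0) hq, ?_⟩
      have hout : ∀ x ∈ Q, x ∉ C → x * v * x⁻¹ ∈ V' ∧ x * v * x⁻¹ ∉ Q ∧ x * v * x⁻¹ ≠ v :=
        fun x hx hxC => ⟨hV'n x hx v hvV', fun hh => hvQ (by
          have := hconjQ x⁻¹ (inv_mem (L.le hx)) _ hh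
          rwa [show x⁻¹ * (x * v * x⁻¹) * x⁻¹⁻¹ = v by group] at this),
          fun e => hxC ⟨hx, mem_centralizer_singleton_iff.2 (commute_iff_conj.1 e).eq⟩⟩
      obtain ⟨h1, h1', h1''⟩ := hout q0 hq0 hq0C
      obtain ⟨h2, h2', h2''⟩ := hout q hq hqC
      refine mem_centralizer_singleton_iff.2 (commute_iff_conj.1 ?_).eq
      rw [show q0⁻¹ * q * v * (q0⁻¹ * q)⁻¹ = q0⁻¹ * (q * v * q⁻¹) * q0 by group,
        huniq _ h2 _ h1 h2' h1' h2'' h1'']
      group
    have hC2 : Nat.card C ≤ 2 := Nat.le_of_mul_le_mul_right (hCsq.trans hQC) Nat.card_pos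
    exact (Subgroup.eq_of_le_of_card_ge hVQ (by omega)).ge

end Cfsg.Agent.H59.PSLSeven
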