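import Cfsg.Agent.H86.CPGroup
import Mathlib

/-!
# Finite groups whose element orders are powers of two or primes
-/

set_option autoImplicit false
set_option linter.unusedSectionVars false
set_option linter.style.haveILetI false

universe u

namespace Cfsg.Agent.H59.PSLSeven

variable {G : Type*} [Group G]

/-- Every nonidentity element has order a power of two or a prime. -/
def Hyp (G : Type*) [Group G] : Prop :=
  ∀ g : G, g ≠ 1 → (∃ k : ℕ, orderOf g = 2 ^ k) ∨ (orderOf g).Prime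

theorem Hyp.of_injective (h : Hyp G) {K : Type*} [Group K] (f : K →* G) (hf : Function.Injective f) :
    Hyp K := fun g hg => by
  rw [← orderOf_injective f hf g]
  exact h _ fun e => hg (hf (e.trans (map_one f).symm))

theorem Hyp.subgroup (h : Hyp G) (K : Subgroup G) : Hyp K :=
  h.of_injective K.subtype Subtype.coe_injective

theorem Hyp.quotient [Finite G] (h : Hyp G) (N : Subgroup G) [N.Normal] : Hyp (G ⧸ N) := by
  intro x hx
  obtain ⟨g, rfl⟩ := QuotientGroup.mk'_surjective N x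
  have hd := orderOf_map_dvd (QuotientGroup.mk' N) g
  rcases h g fun e => hx (by rw [e, map_one]) with ⟨k, hk⟩ | hp
  · rw [hk] at hd
    obtain ⟨i, -, hi⟩ := (Nat.dvd_prime_pow Nat.prime_two).1 hd
    exact Or.inl ⟨i, hi⟩
  · rcases (Nat.dvd_prime hp).1 hd with h1 | h1
    · exact absurd (orderOf_eq_one_iff.1 h1) hx
    · rw [h1]; exact Or.inr hp

theorem Hyp.epo (h : Hyp G) : H86.AllPrimePowerOrder G := by
  intro g hg
  rcases h g hg with ⟨k, hk⟩ | hp
  · rcases k with _ | k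
    · exact absurd (orderOf_eq_one_iff.1 (by simpa using hk)) hg
    · exact (isPrimePow_nat_iff _).2 ⟨2, k + 1, Nat.prime_two, k.succ_pos, hk.symm⟩
  · exact hp.isPrimePow

/-- An element whose order is divisible by an odd prime has that order. -/
theorem Hyp.orderOf_eq (h : Hyp G) {g : G} {p : ℕ} (hp : p.Prime) (hp2 : p ≠ 2)
    (hd : p ∣ orderOf g) : orderOf g = p := by
  rcases h g (by rintro rfl; rw [orderOf_one, Nat.dvd_one] at hd; exact hp.ne_one hd) with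
    ⟨k, hk⟩ | hq
  · rw [hk] at hd
    exact absurd ((Nat.prime_dvd_prime_iff_eq hp Nat.prime_two).1 (hp.dvd_of_dvd_pow hd)) hp2
  · exact ((Nat.prime_dvd_prime_iff_eq hp hq).1 hd).symm

/-- An element of even order has order a power of two. -/
theorem Hyp.orderOf_two_pow (h : Hyp G) {g : G} (hd : 2 ∣ orderOf g) :
    ∃ k, orderOf g = 2 ^ k := by
  rcases h g (by rintro rfl; simp at hd) with hk | hq
  · exact hk
  · exact ⟨1, by rw [pow_one]; exact ((Nat.prime_dvd_prime_iff_eq Nat.prime_two hq).1 hd).symm⟩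

/-- A subgroup of odd prime power order has prime exponent. -/
theorem Hyp.pow_eq_one [Finite G] (h : Hyp G) {p : ℕ} [Fact p.Prime] (hp2 : p ≠ 2) {X : Subgroup G}
    (hX : IsPGroup p X) {x : G} (hx : x ∈ X) : x ^ p = 1 := by
  rcases eq_or_ne x 1 with rfl | h1
  · exact one_pow p
  obtain ⟨i, hi⟩ := IsPGroup.iff_orderOf.1 hX ⟨x, hx⟩
  rw [Subgroup.orderOf_mk] at hi
  have hi0 : i ≠ 0 := fun e => h1 (orderOf_eq_one_iff.1 (by rw [hi, e, pow_zero]))
  exact orderOf_dvd_iff_pow_eq_one.1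
    (h.orderOf_eq Fact.out hp2 (hi ▸ dvd_pow_self p hi0) ▸ dvd_rfl)

/-- Commuting nontrivial elements of coprime orders do not exist. -/
theorem Hyp.eq_one_of_commute [Finite G] (h : Hyp G) {a b : G} (hc : Commute a b)
    (hcop : (orderOf a).Coprime (orderOf b)) (hb : b ≠ 1) : a = 1 := by
  by_contra ha
  have ho := hc.orderOf_mul_eq_mul_orderOf_of_coprime hcop
  have hab : a * b ≠ 1 := fun e => by
    rw [e, orderOf_one] at ho
    exact ha (orderOf_eq_one_iff.1 (Nat.eq_one_of_mul_eq_one_right ho.symm))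
  obtain ⟨r, k, hr, -, hk⟩ := (isPrimePow_nat_iff _).1 (h.epo _ hab)
  rw [ho] at hk
  obtain ⟨p, hp, hpd⟩ := Nat.exists_prime_and_dvd (mt orderOf_eq_one_iff.1 ha)
  obtain ⟨q, hq, hqd⟩ := Nat.exists_prime_and_dvd (mt orderOf_eq_one_iff.1 hb)
  have h1 := (Nat.prime_dvd_prime_iff_eq hp hr).1 (hp.dvd_of_dvd_pow (hk ▸ hpd.mul_right _))
  have h2 := (Nat.prime_dvd_prime_iff_eq hq hr).1 (hq.dvd_of_dvd_pow (hk ▸ hqd.mul_left _))
  subst h1 h2
  exact Nat.not_coprime_of_dvd_of_dvd hp.one_lt hpd hqd hcop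

theorem orderOf_two_of_sq {a : G} (ha : a * a = 1) (ha1 : a ≠ 1) : orderOf a = 2 :=
  orderOf_eq_prime (by rw [pow_two, ha]) ha1

theorem sq_of_orderOf_two {a : G} (ha : orderOf a = 2) : a * a = 1 ∧ a ≠ 1 :=
  ⟨by rw [← pow_two, ← ha, pow_orderOf_eq_one], fun e => by rw [e, orderOf_one] at ha; omega⟩

theorem coprime_two_pow {p : ℕ} (hp : p.Prime) (hp2 : p ≠ 2) (k j : ℕ) :
    (2 ^ k).Coprime (p ^ j) :=
  Nat.coprime_pow_primes k j Nat.prime_two hp (Ne.symm hp2)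

/-- An element of order a power of two commutes with no element of odd prime order. -/
theorem Hyp.not_commute_two [Finite G] (h : Hyp G) {a b : G} {k p : ℕ} (hp : p.Prime) (hp2 : p ≠ 2)
    (ha : orderOf a = 2 ^ k) (hb : orderOf b = p) (hc : Commute a b) : a = 1 := by
  refine h.eq_one_of_commute hc ?_ fun e => ?_
  · rw [ha, hb]; simpa using coprime_two_pow hp hp2 k 1
  · rw [e, orderOf_one] at hb; exact hp.ne_one hb.symm

/-- An involution normalising an abelian subgroup of odd order inverts it. -/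
theorem Hyp.involution_inverts [Finite G] (h : Hyp G) {a : G} (ha : orderOf a = 2) {N : Subgroup G}
    (hab : ∀ x ∈ N, ∀ y ∈ N, Commute x y) (hodd : Odd (Nat.card N))
    (hn : ∀ x ∈ N, a * x * a⁻¹ ∈ N) {x : G} (hx : x ∈ N) : a * x * a⁻¹ = x⁻¹ := by
  obtain ⟨haa, ha1⟩ := sq_of_orderOf_two ha
  have hai : a⁻¹ = a := inv_eq_of_mul_eq_one_left haa
  have he : a * (a * x * a⁻¹) * a⁻¹ = x := by
    rw [hai, show a * (a * x * a) * a = (a * a) * x * (a * a) by simp only [mul_assoc], haa,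
      one_mul, mul_one]
  set w := a * x * a⁻¹ * x with hw
  have hwN : w ∈ N := N.mul_mem (hn x hx) hx
  have hfix : a * w * a⁻¹ = w := by
    rw [hw, show a * (a * x * a⁻¹ * x) * a⁻¹ = a * (a * x * a⁻¹) * a⁻¹ * (a * x * a⁻¹) by group, he]
    exact hab x hx _ (hn x hx)
  have hdvd : orderOf w ∣ Nat.card N := (Subgroup.orderOf_mk w hwN) ▸ orderOf_dvd_natCard _
  have hw1 : w = 1 := h.eq_one_of_commute (b := a) (mul_inv_eq_iff_eq_mul.1 hfix).symm
    (by rw [ha]; exact (Nat.coprime_two_right.2 (hodd.of_dvd_nat hdvd))) ha1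
  exact eq_inv_of_mul_eq_one_left hw1

/-- Order three automorphisms without fixed points. -/
theorem fpf_three {Q : Subgroup G} [Finite G] {y : G} (hy : y ^ 3 = 1)
    (hn : ∀ x ∈ Q, y * x * y⁻¹ ∈ Q) (hf : ∀ x ∈ Q, Commute y x → x = 1) {x : G} (hx : x ∈ Q) :
    x * (y * x * y⁻¹) * (y * (y * x * y⁻¹) * y⁻¹) = 1 ∧ Commute x (y * x * y⁻¹) := by
  have tele : ∀ (z : G), z ^ 3 = 1 → (∀ x ∈ Q, z * x * z⁻¹ ∈ Q) → (∀ x ∈ Q, Commute z x → x = 1) →
      ∀ x ∈ Q, x * (z * x * z⁻¹) * (z * (z * x * z⁻¹) * z⁻¹) = 1 := by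
    intro z hz hzn hzf x hx
    let φ : Q → Q := fun u => ⟨(u : G)⁻¹ * (z * u * z⁻¹), Q.mul_mem (Q.inv_mem u.2) (hzn u u.2)⟩
    have hφ : Function.Injective φ := by
      intro u v huv
      have e : (u : G)⁻¹ * (z * u * z⁻¹) = (v : G)⁻¹ * (z * v * z⁻¹) := congrArg Subtype.val huv
      have e2 : z * ((u : G) * (v : G)⁻¹) * z⁻¹ = (u : G) * (v : G)⁻¹ := by
        rw [show z * ((u : G) * (v : G)⁻¹) * z⁻¹ =
          (u : G) * ((u : G)⁻¹ * (z * u * z⁻¹)) * (z * v * z⁻¹)⁻¹ by group, e]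
        group
      have := hzf _ (Q.mul_mem u.2 (Q.inv_mem v.2)) (mul_inv_eq_iff_eq_mul.1 e2)
      exact Subtype.ext (mul_inv_eq_one.1 this)
    obtain ⟨u, hu⟩ := Finite.surjective_of_injective hφ ⟨x, hx⟩
    have e : (u : G)⁻¹ * (z * u * z⁻¹) = x := congrArg Subtype.val hu
    subst e
    have h3 : z * z * z = 1 := by rw [← hz, pow_succ, pow_two]
    calc _ = (u : G)⁻¹ * ((z * z * z) * u * (z * z * z)⁻¹) := by group
      _ = 1 := by rw [h3]; group
  refine ⟨tele y hy hn hf x hx, ?_⟩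
  have h1 := tele y hy hn hf x hx
  have hy' : y⁻¹ = y * y := inv_eq_of_mul_eq_one_left (by rw [← hy, pow_succ, pow_two])
  have h2 := tele y⁻¹ (by rw [inv_pow, hy, inv_one])
    (fun z hz => by
      rw [inv_inv, show y⁻¹ * z * y = y⁻¹ * z * (y⁻¹)⁻¹ by rw [inv_inv]]
      have h' := hn _ (hn z hz)
      rwa [show y * (y * z * y⁻¹) * y⁻¹ = (y * y) * z * (y * y)⁻¹ by group, ← hy'] at h')
    (fun z hz hc => hf z hz (by simpa using hc.inv_left)) x hx
  have e2 : y⁻¹ * x * (y⁻¹)⁻¹ = y * (y * x * y⁻¹) * y⁻¹ := by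
    rw [show y * (y * x * y⁻¹) * y⁻¹ = (y * y) * x * (y * y)⁻¹ by group, ← hy']
  have e1 : y⁻¹ * (y * (y * x * y⁻¹) * y⁻¹) * (y⁻¹)⁻¹ = y * x * y⁻¹ := by group
  rw [e2, e1] at h2
  set a := y * x * y⁻¹
  set b := y * a * y⁻¹
  have hb : b = a⁻¹ * x⁻¹ := by
    rw [← mul_inv_rev]; exact eq_inv_of_mul_eq_one_right h1
  rw [hb] at h2
  show x * a = a * x
  have h3 : x * a⁻¹ * (x⁻¹ * a) = 1 := by rw [← h2]; simp only [mul_assoc]
  have h4 : x⁻¹ * a = a * x⁻¹ := by
    rw [eq_inv_of_mul_eq_one_right h3]; group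
  calc x * a = x * (x⁻¹ * a) * x := by rw [h4]; group
    _ = a * x := by group

/-- Two subgroups of the shape `C` and its conjugate meeting trivially. -/
theorem card_sq_le [Finite G] {Q C : Subgroup G} {y : G} (hC : C ≤ Q)
    (hn : ∀ x ∈ C, y * x * y⁻¹ ∈ Q) (hi : ∀ c ∈ C, y * c * y⁻¹ ∈ C → c = 1) :
    Nat.card C * Nat.card C ≤ Nat.card Q := by
  rw [← Nat.card_prod]
  refine Nat.card_le_card_of_injective
    (fun p => (⟨(p.1 : G) * (y * p.2 * y⁻¹), Q.mul_mem (hC p.1.2) (hn _ p.2.2)⟩ : Q)) ?_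
  rintro ⟨c, d⟩ ⟨c', d'⟩ e
  replace e : (c : G) * (y * d * y⁻¹) = (c' : G) * (y * d' * y⁻¹) := congrArg Subtype.val e
  have e2 : y * ((d : G) * (d' : G)⁻¹) * y⁻¹ = (c : G)⁻¹ * c' := by
    rw [show y * ((d : G) * (d' : G)⁻¹) * y⁻¹ =
      (c : G)⁻¹ * ((c : G) * (y * d * y⁻¹)) * (y * d' * y⁻¹)⁻¹ by group, e]
    group
  have hd := hi _ (C.mul_mem d.2 (C.inv_mem d'.2))
    (by rw [e2]; exact C.mul_mem (C.inv_mem c.2) c'.2)
  have hd' : d = d' := Subtype.ext (mul_inv_eq_one.1 hd)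
  subst hd'
  exact Prod.ext (Subtype.ext (mul_right_cancel e)) rfl

/-- An element centralised by an inverting involution is not moved onto another one. -/
theorem inverted_conj_eq_one [Finite G] (h : Hyp G) {a y c : G} {r k : ℕ} (hr : r.Prime)
    (hr2 : r ≠ 2) (hy : orderOf y = r) (hinv : a * y * a⁻¹ = y⁻¹) (hc : Commute a c)
    (hcd : Commute a (y * c * y⁻¹)) (hck : orderOf c = 2 ^ k) : c = 1 := by
  have e : y⁻¹ * c * y = y * c * y⁻¹ := by
    calc y⁻¹ * c * y = (a * y * a⁻¹) * (a * c * a⁻¹) * (a * y * a⁻¹)⁻¹ := by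
          rw [hinv, mul_inv_eq_iff_eq_mul.2 hc.eq, inv_inv]
      _ = a * (y * c * y⁻¹) * a⁻¹ := by group
      _ = y * c * y⁻¹ := mul_inv_eq_iff_eq_mul.2 hcd.eq
  have hcy : Commute c (y ^ 2) := by
    rw [Commute, SemiconjBy, pow_two]
    calc c * (y * y) = y * (y⁻¹ * c * y) * y := by group
      _ = y * (y * c * y⁻¹) * y := by rw [e]
      _ = y * y * c := by group
  refine h.not_commute_two hr hr2 hck ?_ hcy
  rw [orderOf_pow' _ two_ne_zero, hy, Nat.Coprime.gcd_eq_one ((Nat.coprime_primes hr Nat.prime_two).2 hr2),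
    Nat.div_one]

end Cfsg.Agent.H59.PSLSeven
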