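import Cfsg.Agent.H59.PSLSeven.Elementary
import Cfsg.Agent.H69.Small4.Reduce
import Cfsg.Agent.H24.TwoMaxClass
import Cfsg.Agent.S0112
import Cfsg.Agent.S0508

/-!
# `PSL(2,7)` by element orders: a self-centralising four-group gives a dihedral Sylow subgroup
-/

set_option autoImplicit false
set_option linter.style.haveILetI false
set_option linter.unusedSectionVars false

namespace Cfsg.Agent.H59.PSLSeven

open Subgroup

local instance factTwoDihedral : Fact (Nat.Prime 2) := ⟨Nat.prime_two⟩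

variable {G : Type*} [Group G] [Finite G]

theorem centralizer_eq_sylow (h : Hyp G) (T : Sylow 2 G) {z : G} (hz : orderOf z = 2)
    (hc : ∀ s ∈ (T : Subgroup G), s * z = z * s) :
    centralizer ({z} : Set G) = (T : Subgroup G) :=
  T.3 (h.epo.isPGroup_centralizer hz _ fun _ hx => mem_centralizer_singleton_iff.1 hx)
    fun s hs => mem_centralizer_singleton_iff.2 (hc s hs)

/-- No semidihedral Sylow 2-subgroups. -/
theorem not_quasiDihedral (h : Hyp G) [IsSimpleGroup G] (hnc : ¬ IsCyclic G) (T : Sylow 2 G) :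
    ¬ Cfsg.IsQuasiDihedral (T : Subgroup G) := by
  intro hT
  obtain ⟨n, hn, hcard, ⟨x, hxT⟩, ⟨y, hyT⟩, hx, hy, hrel⟩ := id hT
  rw [Subgroup.orderOf_mk] at hx hy
  have hrel' : y * x * y⁻¹ = x ^ (2 ^ (n - 1) - 1) := congrArg Subtype.val hrel
  have hxn : x ^ 2 ^ n = 1 := hx ▸ pow_orderOf_eq_one x
  obtain ⟨hy2, -⟩ := sq_of_orderOf_two hy
  have hyi : y⁻¹ = y := inv_eq_self_of_sq hy2
  obtain ⟨d, hd⟩ : ∃ d, 2 ^ (n - 1) = 4 * (d + 1) := by
    refine ⟨2 ^ (n - 3) - 1, ?_⟩
    rw [Nat.sub_add_cancel Nat.one_le_two_pow, show (4 : ℕ) = 2 ^ 2 from rfl, ← pow_add]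
    congr 1; omega
  have h2n : 2 ^ n = 8 * (d + 1) := by
    rw [show n = n - 1 + 1 by omega, pow_succ, hd]; ring
  have he : 2 ^ (n - 1) - 1 = 4 * d + 3 := by omega
  rw [he] at hrel'
  set z0 := x ^ (4 * (d + 1)) with hz0
  have hz0o : orderOf z0 = 2 := by
    rw [hz0, orderOf_pow' _ (by omega), hx, h2n, Nat.gcd_eq_right ⟨2, by ring⟩]
    exact Nat.div_eq_of_eq_mul_left (by omega) (by ring)
  have hyz : y * z0 * y⁻¹ = z0 := by
    rw [hz0, ← conj_pow, hrel', ← pow_mul, pow_eq_pow_mod _ hxn]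
    congr 1
    rw [h2n, show (4 * d + 3) * (4 * (d + 1)) = 4 * (d + 1) + 8 * (d + 1) * (2 * d + 1) by ring,
      Nat.add_mul_mod_self_left, Nat.mod_eq_of_lt (by omega)]
  have hyx : y ∉ zpowers x := by
    intro hm
    obtain ⟨j, hj⟩ := mem_zpowers_iff.1 hm
    have h1 : y * x * y⁻¹ = x ^ 1 := by rw [← hj]; group
    rw [hrel', pow_eq_pow_iff_modEq, hx, h2n, Nat.ModEq, Nat.mod_eq_of_lt (by omega),
      Nat.mod_eq_of_lt (by omega)] at h1
    omega
  have hforms : ∀ p ∈ (T : Subgroup G), ∃ i : ℕ, p = x ^ i ∨ p = y * x ^ i := by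
    have hX : zpowers x ≤ (T : Subgroup G) := zpowers_le.2 hxT
    have hidx : ((zpowers x).subgroupOf (T : Subgroup G)).index = 2 := by
      have h' := Subgroup.card_mul_index ((zpowers x).subgroupOf (T : Subgroup G))
      rw [Nat.card_congr (subgroupOfEquivOfLe hX).toEquiv, Nat.card_zpowers, hx,
        show Nat.card (T : Subgroup G) = 2 ^ (n + 1) from hcard, pow_succ] at h'
      exact Nat.eq_of_mul_eq_mul_left (by positivity) h'
    intro p hp
    have key := mul_mem_iff_of_index_two hidx (a := (⟨y, hyT⟩⁻¹ : (T : Subgroup G))) (b := ⟨p, hp⟩)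
    simp only [mem_subgroupOf, Subgroup.coe_inv, Subgroup.coe_mul, inv_mem_iff] at key
    by_cases hpx : p ∈ zpowers x
    · obtain ⟨i, hi⟩ := mem_powers_iff_mem_zpowers.2 hpx
      exact ⟨i, Or.inl hi.symm⟩
    · have h1 : y⁻¹ * p ∈ zpowers x := key.2 ⟨fun hh => absurd hh hyx, fun hh => absurd hh hpx⟩
      obtain ⟨i, hi⟩ := mem_powers_iff_mem_zpowers.2 h1
      exact ⟨i, Or.inr (by rw [show x ^ i = y⁻¹ * p from hi, mul_inv_cancel_left])⟩
  have hcz : ∀ s ∈ (T : Subgroup G), s * z0 = z0 * s := by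
    intro s hs
    have hcx : ∀ i, Commute (x ^ i) z0 := fun i => hz0 ▸ Commute.pow_pow_self x i _
    obtain ⟨i, rfl | rfl⟩ := hforms s hs
    · exact (hcx i).eq
    · exact ((show Commute y z0 from mul_inv_eq_iff_eq_mul.1 hyz).mul_left (hcx i)).eq
  have hCz := centralizer_eq_sylow h T hz0o hcz
  set w := y * x with hw
  have hwT : w ∈ (T : Subgroup G) := mul_mem hyT hxT
  have hww : w ^ 2 = z0 := by
    rw [hw, pow_two, hz0, show y * x * (y * x) = (y * x * y⁻¹) * (y * y) * x by group, hy2, mul_one,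
      hrel', ← pow_succ]
    congr 1
  have hwo : orderOf w = 4 := by
    obtain ⟨hzz, hz1⟩ := sq_of_orderOf_two hz0o
    refine orderOf_eq_prime_pow (p := 2) (n := 1) ?_ ?_
    · rw [pow_one, hww]; exact hz1
    · rw [pow_succ, pow_one, pow_mul, hww, pow_two, hzz]
  have hxw : ∀ i, Commute (x ^ i) w → x ^ i ∈ zpowers w := by
    intro i hi
    have hyi' : Commute (x ^ i) y := by
      have := hi.mul_right ((Commute.pow_self x i).inv_right)
      rwa [hw, mul_inv_cancel_right] at this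
    have h1 : y * x ^ i * y⁻¹ = x ^ i := mul_inv_eq_iff_eq_mul.2 hyi'.eq.symm
    rw [← conj_pow, hrel', ← pow_mul, pow_eq_pow_iff_modEq, hx, h2n] at h1
    have h2 : 8 * (d + 1) ∣ (4 * d + 2) * i := by
      have := (Nat.modEq_iff_dvd' (Nat.le_mul_of_pos_left i (by omega))).1 h1.symm
      rwa [show (4 * d + 3) * i - i = (4 * d + 2) * i from
        Nat.sub_eq_of_eq_add (by ring)] at this
    have h3 : 4 * (d + 1) ∣ (2 * d + 1) * i := by
      refine Nat.dvd_of_mul_dvd_mul_left two_pos ?_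
      rwa [show 2 * (4 * (d + 1)) = 8 * (d + 1) by ring,
        show 2 * ((2 * d + 1) * i) = (4 * d + 2) * i by ring]
    have hcop : (4 * (d + 1)).Coprime (2 * d + 1) := by
      rw [← hd]
      exact Nat.Coprime.pow_left _ (Nat.coprime_two_left.2 ⟨d, rfl⟩)
    obtain ⟨m, rfl⟩ := hcop.dvd_of_dvd_mul_left h3
    rw [pow_mul, ← hz0, ← hww, ← pow_mul]
    exact pow_mem (mem_zpowers w) _
  refine H69.Small4.no_quasiDihedral hnc T hT hwT (Or.inr hwo) ?_
  refine (Subgroup.card_le_of_le (K := zpowers w) fun c hc => ?_).trans (by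
    rw [Nat.card_zpowers, hwo])
  have hcw : Commute c w := mem_centralizer_singleton_iff.1 hc
  have hcT : c ∈ (T : Subgroup G) := by
    rw [← hCz, mem_centralizer_singleton_iff, ← hww]
    exact (hcw.pow_right 2).eq
  obtain ⟨i, rfl | rfl⟩ := hforms c hcT
  · exact hxw i hcw
  · have hi : x ^ (i + (8 * (d + 1) - 1)) = w⁻¹ * (y * x ^ i) := by
      rw [hw, mul_inv_rev, mul_assoc, inv_mul_cancel_left, eq_inv_mul_iff_mul_eq, ← pow_succ',
        show i + (8 * (d + 1) - 1) + 1 = i + 2 ^ n by omega, pow_add, hxn, mul_one]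
    have h2 := hxw (i + (8 * (d + 1) - 1)) (hi ▸ (Commute.refl w).inv_left.mul_left hcw)
    rw [hi] at h2
    simpa using mul_mem (mem_zpowers w) h2

/-- A self-centralising four-group in a Sylow 2-subgroup leads to `PSL₂`. -/
theorem psl_of_four (h : Hyp G) [IsSimpleGroup G] (hnc : ¬ IsCyclic G) (T : Sylow 2 G) {V : Subgroup G}
    (hVT : V ≤ (T : Subgroup G)) (hV4 : Nat.card V = 4) (hVe : EA V)
    (hCV : ∀ x ∈ (T : Subgroup G), (∀ v ∈ V, Commute x v) → x ∈ V)
    (hne : ¬ (T : Subgroup G) ≤ V) :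
    ∃ (F : Type) (_ : Field F) (_ : Fintype F),
      Nonempty (G ≃* Matrix.ProjectiveSpecialLinearGroup (Fin 2) F) := by
  obtain ⟨k, hk⟩ := IsPGroup.iff_card.1 T.2
  have hk3 : 3 ≤ k := by
    by_contra hk'
    refine hne (Subgroup.eq_of_le_of_card_ge hVT ?_).ge
    rw [hV4, hk]
    exact (Nat.pow_le_pow_right two_pos (show k ≤ 2 by omega)).trans_eq (by norm_num)
  set A := V.subgroupOf (T : Subgroup G) with hA
  have hA4 : Nat.card A = 2 ^ 2 := by
    rw [Nat.card_congr (subgroupOfEquivOfLe hVT).toEquiv, hV4]; norm_num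
  have hCA : centralizer (A : Set (T : Subgroup G)) = A := by
    refine le_antisymm (fun x hx => ?_) (fun x hx => ?_)
    · exact mem_subgroupOf.2 (hCV x x.2 fun v hv =>
        (congrArg Subtype.val (mem_centralizer_iff.1 hx ⟨v, hVT hv⟩ (mem_subgroupOf.2 hv))).symm)
    · exact mem_centralizer_iff.2 fun v hv =>
        Subtype.ext (hVe.comm (mem_subgroupOf.1 hv) (mem_subgroupOf.1 hx)).eq
  have hcl : ∀ [Group.IsNilpotent (T : Subgroup G)],
      Group.nilpotencyClass (T : Subgroup G) = k - 1 := by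
    intro _
    exact S0112.result (p := 2) k hk A hA4 hCA
  rcases H24.two_group_max_class hk3 hk hcl with ⟨m, ⟨e⟩⟩ | ⟨m, ⟨e⟩⟩ | hqd
  · have hm : 2 * m = 2 ^ k := by
      rw [← hk, Nat.card_congr e.toEquiv, DihedralGroup.nat_card]
    have h8 : 8 ≤ 2 ^ k := (Nat.pow_le_pow_right two_pos hk3).trans_eq' (by norm_num)
    haveI : Nontrivial (T : Subgroup G) :=
      Finite.one_lt_card_iff_nontrivial.1 (by rw [hk]; omega)
    haveI := T.2.center_nontrivial
    obtain ⟨t, htc, hto⟩ := H86.AllPrimePowerOrder.exists_orderOf_eq (G := (T : Subgroup G))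
      (T.2.to_subgroup (Subgroup.center (T : Subgroup G))) ((nontrivial_iff_ne_bot _).1 inferInstance)
    rw [← Subgroup.orderOf_coe] at hto
    have htZ : ∀ s ∈ (T : Subgroup G), s * (t : G) = t * s := fun s hs =>
      congrArg Subtype.val (mem_center_iff.1 htc ⟨s, hs⟩)
    set C := centralizer ({(t : G)} : Set G) with hC
    have hCp : IsPGroup 2 C :=
      h.epo.isPGroup_centralizer hto _ fun _ hx => mem_centralizer_singleton_iff.1 hx
    have hO : (Cfsg.oddCore C).map C.subtype = ⊥ := by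
      rw [Subgroup.map_eq_bot_iff_of_injective _ C.subtype_injective]
      refine le_bot_iff.1 (sSup_le fun N hN => ?_)
      obtain ⟨j, hj⟩ := IsPGroup.iff_card.1 (hCp.to_subgroup N)
      have hc : (Nat.card N).Coprime 2 := hN.2
      rw [hj] at hc
      rcases j with _ | j
      · rw [le_bot_iff]; exact Subgroup.card_eq_one.1 (by rw [hj, pow_zero])
      · exact absurd ((Nat.coprime_pow_left_iff j.succ_pos 2 2).1 hc) (by norm_num)
    obtain ⟨F, iF, iFt, -, hF⟩ := S0508.result T m (by omega) ⟨e⟩ t hto t.2 htZ ⊥ hO.symm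
      (fun hb => absurd rfl hb) (fun s _ hs => absurd (mem_centralizer_iff.2 fun y hy => by
        rw [mem_bot.1 hy, one_mul, mul_one]) hs) (fun Y hY hY1 => absurd (le_bot_iff.1 hY) hY1)
    exact ⟨F, iF, iFt, hF⟩
  · exact (H69.Small4.no_quaternion hnc T e).elim
  · exact absurd hqd (not_quasiDihedral h hnc T)

end Cfsg.Agent.H59.PSLSeven
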