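import Cfsg.Agent.H59.PSLSeven.NonSimple
import Cfsg.Agent.H64.SL2Sylow
import Cfsg.Agent.S0811
import Cfsg.Agent.S0812

/-!
# `PSL(2,7)` by element orders: the groups `PSL₂` with a larger Sylow 3-subgroup
-/

set_option autoImplicit false
set_option linter.style.haveILetI false
set_option linter.unusedSectionVars false

namespace Cfsg.Agent.H59.PSLSeven

open Subgroup

local instance factThreePSL : Fact (Nat.Prime 3) := ⟨Nat.prime_three⟩

theorem three_pow_add_one {k m : ℕ} (hkm : 3 ^ k + 1 = 2 ^ m) : k ≤ 1 := by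
  by_contra hk
  have h3 : ∀ j : ℕ, 3 ^ j % 8 = 1 ∨ 3 ^ j % 8 = 3 := by
    intro j
    induction j with
    | zero => left; rfl
    | succ j ih => rw [pow_succ]; omega
  have h9 : 9 ≤ 3 ^ k := (Nat.pow_le_pow_right (by norm_num) (show 2 ≤ k by omega)).trans_eq' (by norm_num)
  rcases Nat.lt_or_ge m 3 with hm | hm
  · have : 2 ^ m ≤ 4 := (Nat.pow_le_pow_right two_pos (show m ≤ 2 by omega)).trans_eq (by norm_num)
    omega
  · obtain ⟨c, hc⟩ := pow_dvd_pow 2 hm
    have := h3 k
    omega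

theorem orderOf_of_dihedral {K : Type*} [Group K] {H : Subgroup K} {d : ℕ}
    (e : H ≃* DihedralGroup d) : ∃ g : K, orderOf g = d := by
  refine ⟨(e.symm (DihedralGroup.r 1) : K), ?_⟩
  rw [Subgroup.orderOf_coe, MulEquiv.orderOf_eq, DihedralGroup.orderOf_r_one]

variable {G : Type*} [Group G] [Finite G]

/-- No `PSL₂` has such element orders and a Sylow 3-subgroup not of order three. -/
theorem false_of_psl (h : Hyp G) (h5 : ¬ 5 ∣ Nat.card G) [IsSimpleGroup G] (h3 : ∀ S : Sylow 3 G, Nat.card S ≠ 3)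
    {F : Type} [Field F] [Fintype F] (e : G ≃* Matrix.ProjectiveSpecialLinearGroup (Fin 2) F) :
    False := by
  haveI : Finite (Matrix.ProjectiveSpecialLinearGroup (Fin 2) F) := Finite.of_equiv _ e.toEquiv
  have hH : Hyp (Matrix.ProjectiveSpecialLinearGroup (Fin 2) F) :=
    h.of_injective e.symm.toMonoidHom e.symm.injective
  obtain ⟨p, hp⟩ := CharP.exists F
  haveI := Fact.mk (CharP.char_is_prime F p)
  obtain ⟨f, -, hq⟩ := FiniteField.card F p
  have hcard := H6.card_psl2_mul (F := F) (q := Fintype.card F) rfl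
  have hGc : Nat.card G = Nat.card (Matrix.ProjectiveSpecialLinearGroup (Fin 2) F) :=
    Nat.card_congr e.toEquiv
  set q := Fintype.card F with hqdef
  have hq2 : 2 ≤ q := Fintype.one_lt_card
  have h3d : 3 ∣ Nat.card (Matrix.ProjectiveSpecialLinearGroup (Fin 2) F) := by
    have h1 : 3 ∣ q * (q ^ 2 - 1) := by
      rcases (show q % 3 = 0 ∨ q % 3 = 1 ∨ q % 3 = 2 by omega) with hm | hm | hm
      · exact Dvd.dvd.mul_right (Nat.dvd_of_mod_eq_zero hm) _
      all_goals
        refine Dvd.dvd.mul_left ?_ _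
        refine (Nat.modEq_iff_dvd' (Nat.one_le_pow _ _ (by omega))).1 ?_
        rw [Nat.ModEq, Nat.pow_mod, hm]
    rw [← hcard] at h1
    refine (Nat.prime_three.dvd_mul.1 h1).resolve_right fun hg => ?_
    have h32 := hg.trans (Nat.gcd_dvd_left _ _)
    norm_num at h32
  rcases ne_or_eq p 3 with hp3 | rfl
  · obtain ⟨R⟩ : Nonempty (Sylow 3 (Matrix.SpecialLinearGroup (Fin 2) F)) := inferInstance
    haveI := H64.SL2.isCyclic_of_isPGroup p (r := 3) (by norm_num) (Ne.symm hp3) _ R.2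
    let π := QuotientGroup.mk' (Subgroup.center (Matrix.SpecialLinearGroup (Fin 2) F))
    let S : Sylow 3 (Matrix.ProjectiveSpecialLinearGroup (Fin 2) F) :=
      R.mapSurjective (QuotientGroup.mk'_surjective _)
    haveI hS : IsCyclic (S : Subgroup (Matrix.ProjectiveSpecialLinearGroup (Fin 2) F)) :=
      isCyclic_of_surjective (π.subgroupMap (R : Subgroup (Matrix.SpecialLinearGroup (Fin 2) F)))
        (π.subgroupMap_surjective _)
    have hdvd : Nat.card S ∣ 3 := by
      rw [← IsCyclic.exponent_eq_card]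
      exact Monoid.exponent_dvd_of_forall_pow_eq_one fun x =>
        Subtype.ext (hH.pow_eq_one (by norm_num) S.2 x.2)
    have h1 : Nat.card S ≠ 1 := fun h1 => by
      have h' := S.dvd_card_of_dvd_card h3d
      rw [show Nat.card (S : Subgroup (Matrix.ProjectiveSpecialLinearGroup (Fin 2) F)) = 1 from h1] at h'
      norm_num at h'
    have hS3 : Nat.card S = 3 := ((Nat.dvd_prime Nat.prime_three).1 hdvd).resolve_left h1
    obtain ⟨T⟩ : Nonempty (Sylow 3 G) := inferInstance
    refine h3 T ?_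
    rw [T.card_eq_multiplicity, hGc, ← S.card_eq_multiplicity, hS3]
  have hf1 : (f : ℕ) ≠ 1 := by
    intro hf
    rw [hf, pow_one] at hq
    have h12 : Nat.card G = 12 := by rw [hGc, H6.card_psl2 hq]; norm_num
    obtain ⟨T⟩ : Nonempty (Sylow 3 G) := inferInstance
    exact h3 T (card_sylow_eq_prime (by rw [h12]; norm_num) (by rw [h12]; norm_num) T)
  have hf0 := f.pos
  have hodd : q % 2 = 1 := by rw [hq, Nat.pow_mod]; simp
  have hg : Nat.gcd 2 (q - 1) = 2 := Nat.gcd_eq_left (by omega)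
  have h27 : (f : ℕ) ≠ 2 → 27 ≤ q := fun hf => by
    rw [hq]
    exact (Nat.pow_le_pow_right (by norm_num) (show 3 ≤ (f : ℕ) by omega)).trans_eq' (by norm_num)
  rcases Nat.even_or_odd (f : ℕ) with ⟨k, hk⟩ | ⟨k, hk⟩
  · by_cases hf2 : (f : ℕ) = 2
    · refine h5 ?_
      rw [hf2] at hq
      rw [hGc, H6.card_psl2 hq]
      norm_num
    have := h27 hf2
    obtain ⟨H, -, ⟨eH⟩⟩ := S0812.result (F := F) rfl
      (by simp only [Finset.mem_insert, Finset.mem_singleton]; omega)
    obtain ⟨g, hgo⟩ := orderOf_of_dihedral eH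
    rw [← hqdef, hg] at hgo
    have h9 : q % 8 = 1 := by rw [hq, hk, ← two_mul, pow_mul, Nat.pow_mod]; simp
    obtain ⟨j, hj⟩ := hH.orderOf_two_pow (g := g) (by rw [hgo]; omega)
    rw [hgo] at hj
    have hsq : (3 ^ k - 1) * (3 ^ k + 1) = 2 ^ (j + 1) := by
      rw [pow_succ, ← hj, Nat.div_mul_cancel (by omega), hq, hk, pow_add, mul_comm (3 ^ k - 1)]
      exact (Nat.sq_sub_sq _ 1).symm.trans (by rw [one_pow, sq])
    obtain ⟨i, -, hi⟩ := (Nat.dvd_prime_pow Nat.prime_two).1
      (Dvd.intro_left (3 ^ k - 1) hsq)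
    have := three_pow_add_one hi
    omega
  · have := h27 (by omega)
    have h4 : q % 4 = 3 := by rw [hq, hk, pow_succ, pow_mul, Nat.mul_mod, Nat.pow_mod]; simp
    obtain ⟨H, -, ⟨eH⟩⟩ := S0811.result (F := F) rfl
      (by simp only [Finset.mem_insert, Finset.mem_singleton]; omega)
    obtain ⟨g, hgo⟩ := orderOf_of_dihedral eH
    rw [← hqdef, hg] at hgo
    obtain ⟨j, hj⟩ := hH.orderOf_two_pow (g := g) (by rw [hgo]; omega)
    rw [hgo] at hj
    have : 3 ^ (f : ℕ) + 1 = 2 ^ (j + 1) := by rw [← hq, pow_succ]; omega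
    have := three_pow_add_one this
    omega

end Cfsg.Agent.H59.PSLSeven
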