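import Cfsg.Agent.H59.PSLSeven.Bad
import Cfsg.Agent.H59.PSLSeven.Dihedral
import Cfsg.Agent.H59.PSLSeven.PSL
import Cfsg.Agent.H59.PSLSeven.Zassenhaus
import Cfsg.Agent.S0205

/-!
# `PSL(2,7)` by element orders: assembly
-/

set_option autoImplicit false
set_option linter.style.haveILetI false
set_option linter.unusedSectionVars false

universe u

namespace Cfsg.Agent.H59.PSLSeven

open Subgroup

local instance factTwoMain : Fact (Nat.Prime 2) := ⟨Nat.prime_two⟩

variable {G : Type u} [Group G] [Finite G]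

theorem isSolvable_of_isPGroup {K : Type*} [Group K] [Finite K] {p : ℕ} [Fact p.Prime]
    (h : IsPGroup p K) : Group.IsSolvable K := by
  haveI := h.isNilpotent
  infer_instance

/-- Local subgroups are proper and solvable. -/
theorem local_solvable [IsSimpleGroup G] (h : Hyp G) (h5 : ¬ 5 ∣ Nat.card G)
    (hns : ¬ Group.IsSolvable G)
    (ih : ∀ (K : Type u) [Group K] [Finite K], Nat.card K < Nat.card G → Hyp K → ¬ 5 ∣ Nat.card K →
      ¬ Group.IsSolvable K → Nonempty (K ≃* L7))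
    {X : Subgroup G} (hX : IsPGroup 2 X) (hX1 : X ≠ ⊥) :
    normalizer (X : Set G) ≠ ⊤ ∧ Group.IsSolvable (normalizer (X : Set G) : Subgroup G) := by
  have hne : normalizer (X : Set G) ≠ ⊤ := fun e => by
    haveI := normalizer_eq_top_iff.1 e
    rcases (inferInstance : X.Normal).eq_bot_or_eq_top with hb | ht
    · exact hX1 hb
    · rw [ht] at hX
      exact hns (isSolvable_of_isPGroup (p := 2) (hX.of_equiv Subgroup.topEquiv))
  refine ⟨hne, ?_⟩
  by_contra hs
  set N := normalizer (X : Set G)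
  have hlt : Nat.card N < Nat.card G := by
    rw [← Nat.card_congr (Subgroup.topEquiv (G := G)).toEquiv]
    exact Set.Finite.card_lt_card (Set.toFinite _)
      (SetLike.coe_ssubset_coe.2 (lt_top_iff_ne_top.2 hne))
  obtain ⟨e⟩ := ih _ hlt (h.subgroup N) (fun hd => h5 (hd.trans N.card_subgroup_dvd_card)) hs
  haveI := isSimpleGroup_L7
  haveI : Nontrivial N := (nontrivial_iff_ne_bot N).2 fun eb => hX1 (le_bot_iff.1 (eb ▸ le_normalizer))
  haveI : IsSimpleGroup N :=
    IsSimpleGroup.isSimpleGroup_of_surjective e.symm.toMonoidHom e.symm.surjective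
  have hn : (X.subgroupOf N).Normal := (normal_subgroupOf_iff_le_normalizer le_normalizer).2 le_rfl
  rcases hn.eq_bot_or_eq_top with hb | ht
  · exact hX1 ((subgroupOf_eq_bot.1 hb).eq_bot_of_le le_normalizer)
  · have hNX : N ≤ X := subgroupOf_eq_top.1 ht
    exact hs (isSolvable_of_isPGroup (hX.to_le hNX))

/-- The simple groups of this kind with solvable 2-local subgroups. -/
theorem psl_or_suzuki [IsSimpleGroup G] (h : Hyp G) (hns : ¬ Group.IsSolvable G)
    (hloc : ∀ X : Subgroup G, IsPGroup 2 X → X ≠ ⊥ →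
      normalizer (X : Set G) ≠ ⊤ ∧ Group.IsSolvable (normalizer (X : Set G) : Subgroup G)) :
    (∃ (F : Type) (_ : Field F) (_ : Fintype F),
      Nonempty (G ≃* Matrix.ProjectiveSpecialLinearGroup (Fin 2) F)) ∨ Cfsg.IsSuzuki G := by
  classical
  have hnc : ¬ IsCyclic G := fun hc => hns (Group.isSolvable_of_comm fun a b => by
    letI := hc.commGroup
    exact mul_comm a b)
  have hG2 : ∀ H : Subgroup G, H.index ≠ 2 := H69.Small4.simple_no_index_two hnc
  obtain ⟨T⟩ : Nonempty (Sylow 2 G) := inferInstance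
  have heven : 2 ∣ Nat.card G :=
    even_iff_two_dvd.1 ((Nat.even_or_odd _).resolve_right fun ho => hns (S0205.result ho))
  have hT1 : (T : Subgroup G) ≠ ⊥ := fun e => by
    have := T.dvd_card_of_dvd_card heven
    rw [e, Subgroup.card_bot] at this
    omega
  set J := thompJ (T : Subgroup G) with hJ
  have hJT : J ≤ T := thompJ_le _
  have hJ1 : J ≠ ⊥ := thompJ_ne_bot T.2 hT1
  obtain ⟨hMne, hMs⟩ := hloc _ (T.2.to_le hJT) hJ1
  set M := normalizer (J : Set G) with hM
  have hTM : (T : Subgroup G) ≤ M :=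
    le_normalizer.trans (normalizer_le_normalizer_thompJ (T : Subgroup G))
  by_cases hall : ∀ X : Subgroup G, X ≤ T → X ≠ ⊥ → normalizer (X : Set G) ≤ M
  · have hse : Cfsg.IsStronglyEmbedded M := by
      refine H28.isStronglyEmbedded_of_normalizer_le hMne (T.subtype hTM) ?_ fun X hX hX1 => ?_
      · rw [Sylow.coe_subtype]
        exact fun e => hT1 ((subgroupOf_eq_bot.1 e).eq_bot_of_le hTM)
      · rw [Sylow.coe_subtype] at hX
        exact hall _ ((Subgroup.map_mono hX).trans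
          (by rw [map_subgroupOf_eq_of_le hTM]))
          fun e => hX1 ((Subgroup.map_eq_bot_iff_of_injective X M.subtype_injective).1 e)
    exact psl_of_se h hG2 T hse hTM hMs (T.2.to_le hJT) hJ1 (hJT.trans hTM) le_rfl
  push Not at hall
  obtain ⟨X, ⟨hXT, hX1, hXM⟩, hXmax⟩ := Set.exists_max_image
    {X : Subgroup G | X ≤ T ∧ X ≠ ⊥ ∧ ¬ normalizer (X : Set G) ≤ M}
    (fun X => Nat.card ((T : Subgroup G) ⊓ normalizer (X : Set G) : Subgroup G)) (Set.toFinite _) hall
  set N := normalizer (X : Set G) with hN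
  set P := (T : Subgroup G) ⊓ N with hP
  have hPN : P ≤ N := inf_le_right
  have hPT : P ≤ T := inf_le_left
  have hXP : X ≤ P := le_inf hXT le_normalizer
  have hP1 : P ≠ ⊥ := fun e => hX1 (le_bot_iff.1 (e ▸ hXP))
  have hmax : ∀ Y : Subgroup G, Y ≤ T → Y ≠ ⊥ → N ≤ normalizer (Y : Set G) →
      (T : Subgroup G) ⊓ normalizer (Y : Set G) ≤ N := by
    intro Y hY hY1 hNY
    have h1 := hXmax Y ⟨hY, hY1, fun hle => hXM (hNY.trans hle)⟩
    have h2 := Subgroup.eq_of_le_of_card_ge (inf_le_inf_left _ hNY) h1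
    exact h2.ge.trans hPN
  have hgrow : P ≠ T → ¬ (T : Subgroup G) ⊓ normalizer (P : Set G) ≤ P := fun hne hle => by
    obtain ⟨t, htT, htP, htn⟩ := H28.exists_mem_normalizer_not_mem T.2 hPT hne
    exact htP (hle ⟨htT, htn⟩)
  have hPmax : ∀ R : Subgroup G, IsPGroup 2 R → P ≤ R → R ≤ N → R = P := by
    intro R hR hPR hRN
    by_cases hPT' : P = T
    · exact (hPT'.trans (T.3 hR (hPT' ▸ hPR)).symm).symm
    by_contra hne
    obtain ⟨b, hbR, hbP, hbn⟩ := H28.exists_mem_normalizer_not_mem hR hPR (Ne.symm hne)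
    have hNPM : normalizer (P : Set G) ≤ M := by
      by_contra hle
      refine hgrow hPT' ?_
      exact (Subgroup.eq_of_le_of_card_ge (le_inf hPT le_normalizer)
        (hXmax P ⟨hPT, hP1, hle⟩)).ge
    set R' := P ⊔ zpowers b with hR'
    have hR'R : R' ≤ R := sup_le hPR (zpowers_le.2 hbR)
    have hR'M : R' ≤ M := sup_le (hPT.trans hTM) (zpowers_le.2 (hNPM hbn))
    obtain ⟨U, hU⟩ := ((hR.to_le hR'R).comap_of_injective M.subtype M.subtype_injective).exists_le_sylow
    obtain ⟨⟨m, hm⟩, hmU⟩ := MulAction.exists_smul_eq M U (T.subtype hTM)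
    have hconj : ∀ x ∈ R', m * x * m⁻¹ ∈ (T : Subgroup G) := by
      intro x hx
      have h1 : (⟨m, hm⟩ * ⟨x, hR'M hx⟩ * (⟨m, hm⟩)⁻¹ : M) ∈ (T.subtype hTM : Subgroup M) := by
        rw [← hmU]
        exact ⟨⟨x, hR'M hx⟩, hU (show (⟨x, hR'M hx⟩ : M) ∈ R'.comap M.subtype from hx), rfl⟩
      exact h1
    set X' := X.map (MulAut.conj m).toMonoidHom with hX'
    have hX'T : X' ≤ T := by
      rintro _ ⟨x, hx, rfl⟩
      exact hconj x (le_sup_left (a := P) (hXP hx))
    have hX'M : ¬ normalizer (X' : Set G) ≤ M := fun hle => hXM fun n hn => by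
      have h1 : m * n * m⁻¹ ∈ normalizer (X' : Set G) :=
        H28.mem_normalizer_map_conj_iff.2 (by simpa [mul_assoc] using hn)
      have h2 := mul_mem (mul_mem (inv_mem hm) (hle h1)) hm
      simpa [mul_assoc] using h2
    have h1 := hXmax X' ⟨hX'T,
      fun e => hX1 ((Subgroup.map_eq_bot_iff_of_injective X (MulAut.conj m).injective).1 e), hX'M⟩
    have h2 : R'.map (MulAut.conj m).toMonoidHom ≤ (T : Subgroup G) ⊓ normalizer (X' : Set G) := by
      rintro _ ⟨x, hx, rfl⟩
      exact ⟨hconj x hx, H28.mem_normalizer_map_conj_iff.2 (by simpa [mul_assoc] using hRN (hR'R hx))⟩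
    have h3 := (card_map_conj R' m).ge.trans ((Subgroup.card_le_of_le h2).trans h1)
    have h4 : P = R' := Subgroup.eq_of_le_of_card_ge (le_sup_left : P ≤ R') h3
    exact hbP (h4 ▸ (le_sup_right : _ ≤ R') (mem_zpowers b))
  obtain ⟨hNne, hNs⟩ := hloc _ (T.2.to_le hXT) hX1
  obtain ⟨Q, L, -⟩ := exists_core hNs (T.2.to_le hXT) hX1 le_normalizer le_rfl
  by_cases hbad : ∃ A, MaxEA P A ∧ ¬ A ≤ Q
  · obtain ⟨A, hA, hAQ⟩ := hbad
    obtain ⟨a, haA, haQ⟩ := SetLike.not_le_iff_exists.1 hAQ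
    obtain ⟨V, hVT, hV4, hVe, hCV, hne⟩ := bad h hG2 T L rfl hPmax hmax hA haA haQ
    exact Or.inl (psl_of_four h hnc T hVT hV4 hVe hCV hne)
  exfalso
  push Not at hbad
  have hQP : Q ≤ P := le_sup_right.trans (hPmax _ ((T.2.to_le hPT).to_sup_of_normal_right' L.pg
    (hPN.trans L.norm)) le_sup_left (sup_le hPN L.le)).le
  have hNJ : N ≤ normalizer (thompJ P : Set G) := fun g hg =>
    mem_normalizer_thompJ fun A hA x hx => hQP ((mem_normalizer_iff.1 (L.norm hg) x).1 (hbad A hA hx))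
  by_cases hPT' : P = T
  · exact hXM (by rw [hM, hJ, ← hPT']; exact hNJ)
  · refine hgrow hPT' fun t ht => ⟨ht.1, ?_⟩
    exact hmax (thompJ P) ((thompJ_le P).trans hPT) (thompJ_ne_bot (T.2.to_le hPT) hP1) hNJ
      ⟨ht.1, normalizer_le_normalizer_thompJ P ht.2⟩

/-- The simple groups of this kind with larger Sylow 3-subgroup do not exist. -/
theorem false_of_simple [IsSimpleGroup G] (h : Hyp G) (h5 : ¬ 5 ∣ Nat.card G)
    (hns : ¬ Group.IsSolvable G)
    (ih : ∀ (K : Type u) [Group K] [Finite K], Nat.card K < Nat.card G → Hyp K → ¬ 5 ∣ Nat.card K →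
      ¬ Group.IsSolvable K → Nonempty (K ≃* L7))
    (h3 : ∀ S : Sylow 3 G, Nat.card S ≠ 3) : False := by
  rcases psl_or_suzuki h hns (fun _ hX hX1 => local_solvable h h5 hns ih hX hX1) with
    ⟨F, _, _, ⟨e⟩⟩ | ⟨-, m, -, hm⟩
  · exact false_of_psl h h5 h3 e
  · refine h5 ?_
    rw [hm]
    refine Dvd.dvd.mul_right (Dvd.dvd.mul_left (Nat.dvd_of_mod_eq_zero ?_) _) _
    rw [← pow_mul, mul_comm (2 * m + 1) 2, pow_mul, Nat.add_mod, Nat.pow_mod, pow_succ, pow_mul]
    norm_num [Nat.mul_mod, Nat.pow_mod]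

/-- Nonsolvable groups of this kind of order prime to five are isomorphic to `PSL(2,7)`. -/
theorem main : ∀ (n : ℕ) (G : Type u) [Group G] [Finite G], Nat.card G = n → Hyp G →
    ¬ 5 ∣ Nat.card G → ¬ Group.IsSolvable G → Nonempty (G ≃* L7) := by
  intro n
  induction n using Nat.strong_induction_on with
  | _ n ih =>
    intro G _ _ hn h h5 hns
    have ih' : ∀ (K : Type u) [Group K] [Finite K], Nat.card K < Nat.card G → Hyp K →
        ¬ 5 ∣ Nat.card K → ¬ Group.IsSolvable K → Nonempty (K ≃* L7) :=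
      fun K _ _ hK => ih _ (hn ▸ hK) K rfl
    by_cases h3 : ∃ S : Sylow 3 G, Nat.card S = 3
    · obtain ⟨S, hS⟩ := h3
      exact caseA h h5 hns S hS
    push Not at h3
    obtain ⟨S⟩ : Nonempty (Sylow 3 G) := inferInstance
    haveI : IsSimpleGroup G := by
      by_contra hs
      exact h3 S (nonsimple h h5 hns ih' hs S)
    exact (false_of_simple h h5 hns ih' h3).elim

end Cfsg.Agent.H59.PSLSeven
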