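import Cfsg.Agent.H59.PSLSeven.Basic
import Cfsg.Agent.H19.MinimalNormal
import Cfsg.Agent.H19.Cores
import Cfsg.Prelude.Def_Solvable

/-!
# `PSL(2,7)` by element orders: elements outside the 2-core of a solvable local subgroup
-/

set_option autoImplicit false
set_option linter.style.haveILetI false
set_option linter.unusedSectionVars false

namespace Cfsg.Agent.H59.PSLSeven

open Subgroup

local instance factTwoOuter : Fact (Nat.Prime 2) := ⟨Nat.prime_two⟩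

variable {G : Type*} [Group G] [Finite G]

/-- `Q` is the nontrivial 2-core of the solvable subgroup `N`. -/
structure Core (N Q : Subgroup G) : Prop where
  norm : N ≤ normalizer (Q : Set G)
  le : Q ≤ N
  pg : IsPGroup 2 Q
  max : ∀ R : Subgroup G, R ≤ N → IsPGroup 2 R → N ≤ normalizer (R : Set G) → R ≤ Q
  ne : Q ≠ ⊥
  solv : Group.IsSolvable N

theorem exists_core {N X : Subgroup G} (hs : Group.IsSolvable N) (hX : IsPGroup 2 X) (hX1 : X ≠ ⊥)
    (hXN : X ≤ N) (hn : N ≤ normalizer (X : Set G)) :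
    ∃ Q : Subgroup G, Core N Q ∧ X ≤ Q := by
  have hmax : ∀ R : Subgroup G, R ≤ N → IsPGroup 2 R → N ≤ normalizer (R : Set G) →
      R ≤ (Cfsg.pCore 2 N).map N.subtype := by
    intro R hR hp hRn x hx
    exact ⟨⟨x, hR hx⟩, H19.le_pCore ((normal_subgroupOf_iff_le_normalizer hR).2 hRn)
      (hp.comap_of_injective _ N.subtype_injective) hx, rfl⟩
  have hXQ := hmax X hXN hX hn
  refine ⟨_, ⟨?_, map_subtype_le _, (H19.pCore_isPGroup (G := N) 2).map _, hmax, ?_, hs⟩, hXQ⟩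
  · intro g hg
    haveI := H19.pCore_normal 2 N
    refine mem_normalizer_fintype fun x hx => ?_
    obtain ⟨y, hy, rfl⟩ := hx
    exact ⟨⟨g, hg⟩ * y * (⟨g, hg⟩)⁻¹, Normal.conj_mem inferInstance y hy _, rfl⟩
  · exact fun e => hX1 (le_bot_iff.1 (e ▸ hXQ))

theorem mem_or_inv_of_card_three {K : Type*} [Group K] {W : Subgroup K} {w x : K}
    (hW : Nat.card W = 3) (hw : w ∈ W) (hw1 : w ≠ 1) (hx : x ∈ W) (hx1 : x ≠ 1) :
    x = w ∨ x = w⁻¹ := by
  haveI : Fact (Nat.Prime 3) := ⟨Nat.prime_three⟩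
  obtain ⟨k, hk⟩ := mem_powers_of_prime_card (G := W) hW (g := ⟨w, hw⟩) (g' := ⟨x, hx⟩)
    (fun e => hw1 (congrArg Subtype.val e))
  have hk' : w ^ k = x := congrArg Subtype.val hk
  have h3 : w ^ 3 = 1 := by
    have := pow_card_eq_one' (x := (⟨w, hw⟩ : W))
    rw [hW] at this
    exact congrArg Subtype.val this
  subst hk'
  rw [pow_eq_pow_mod k h3] at hx1 ⊢
  have := Nat.mod_lt k (show 3 > 0 by norm_num)
  interval_cases hm : k % 3
  · exact absurd (pow_zero w) hx1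
  · exact Or.inl (pow_one w)
  · exact Or.inr (eq_inv_of_mul_eq_one_left (by rw [← pow_succ, h3]))

/-- An involution of a 2-subgroup outside the 2-core inverts an element of odd prime order. -/
theorem outer (h : Hyp G) {N Q : Subgroup G} (L : Core N Q) {P : Subgroup G} (hP : IsPGroup 2 P)
    (hPN : P ≤ N) {a : G} (ha : a ∈ P) (ha2 : orderOf a = 2) (haQ : a ∉ Q) :
    ∃ r y, r.Prime ∧ r ≠ 2 ∧ y ∈ N ∧ orderOf y = r ∧ a * y * a⁻¹ = y⁻¹ ∧
      (∀ b ∈ P, b * b ∈ Q → b ∉ Q → a * b ∈ Q) ∧ (r = 3 → ∀ b ∈ P, b * b ∈ Q) := by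
  haveI := L.solv
  set Q' : Subgroup N := Q.subgroupOf N with hQ'
  haveI hQn : Q'.Normal := (normal_subgroupOf_iff_le_normalizer L.le).2 L.norm
  let π := QuotientGroup.mk' Q'
  have hker : ∀ x : N, π x = 1 ↔ (x : G) ∈ Q := fun x =>
    (QuotientGroup.eq_one_iff x).trans mem_subgroupOf
  haveI : Nontrivial (N ⧸ Q') := nontrivial_of_ne (π ⟨a, hPN ha⟩) 1 fun e => haQ ((hker _).1 e)
  haveI : Group.IsSolvable (N ⧸ Q') :=
    Group.isSolvable_of_surjective (QuotientGroup.mk'_surjective Q')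
  obtain ⟨W, p, hWn, hW1, hWc, hp, hWp, hWe⟩ := H19.exists_normal_elementary (G := N ⧸ Q')
  haveI := hWn
  haveI := Fact.mk hp
  have hQ'p : IsPGroup 2 Q' := L.pg.comap_of_injective _ N.subtype_injective
  have hp2 : p ≠ 2 := by
    rintro rfl
    have hR : IsPGroup 2 (W.comap π) := hWp.comap_of_ker_isPGroup π (by
      rw [QuotientGroup.ker_mk']; exact hQ'p)
    have hle := L.max ((W.comap π).map N.subtype) (map_subtype_le _) (hR.map _) (by
      intro g hg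
      refine mem_normalizer_fintype fun x hx => ?_
      obtain ⟨y, hy, rfl⟩ := hx
      exact ⟨⟨g, hg⟩ * y * (⟨g, hg⟩)⁻¹, (hWn.comap π).conj_mem y hy _, rfl⟩)
    refine hW1 ((eq_bot_iff_forall W).2 fun z hz => ?_)
    obtain ⟨x, rfl⟩ := QuotientGroup.mk'_surjective Q' z
    exact (hker x).2 (hle ⟨x, hz, rfl⟩)
  have hQ'1 : Q' ≠ ⊥ := fun e => L.ne (by
    have := congrArg (Subgroup.map N.subtype) e
    rwa [hQ', map_subgroupOf_eq_of_le L.le, Subgroup.map_bot] at this)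
  have hWcard : Nat.card W = p :=
    (h.subgroup N).epo.card_layer hp2 Q' hQ'p hQ'1 W hW1 hWc hWe
  have hH : Hyp (N ⧸ Q') := (h.subgroup N).quotient Q'
  obtain ⟨w, hw, hwo⟩ := H86.AllPrimePowerOrder.exists_orderOf_eq hWp hW1
  have hw1 : w ≠ 1 := fun e => by rw [e, orderOf_one] at hwo; exact hp.ne_one hwo.symm
  have hodd : Odd (Nat.card W) := hWcard ▸ hp.odd_of_ne_two hp2
  have hab : ∀ x ∈ W, ∀ y ∈ W, Commute x y := fun x hx y hy =>
    congrArg Subtype.val (hWc.is_comm.comm (⟨x, hx⟩ : W) ⟨y, hy⟩)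
  have hcent : ∀ c (hc : c ∈ P), Commute (π ⟨c, hPN hc⟩) w → c ∈ Q := by
    intro c hc hcw
    obtain ⟨k, hk⟩ := IsPGroup.iff_orderOf.1 hP ⟨c, hc⟩
    rw [orderOf_mk] at hk
    have hd := orderOf_map_dvd π ⟨c, hPN hc⟩
    rw [orderOf_mk, hk] at hd
    obtain ⟨i, -, hi⟩ := (Nat.dvd_prime_pow Nat.prime_two).1 hd
    exact (hker ⟨c, hPN hc⟩).1 (hH.not_commute_two hp hp2 hi hwo hcw)
  have hinv : ∀ b (hb : b ∈ P), b * b ∈ Q → b ∉ Q →
      π ⟨b, hPN hb⟩ * w * (π ⟨b, hPN hb⟩)⁻¹ = w⁻¹ := by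
    intro b hb hbb hbQ
    refine hH.involution_inverts (orderOf_two_of_sq ?_ fun e => hbQ ((hker _).1 e)) hab hodd
      (fun z hz => hWn.conj_mem z hz _) hw
    rw [← map_mul]
    exact (hker _).2 hbb
  have hab2 : a * a ∈ Q := by rw [(sq_of_orderOf_two ha2).1]; exact one_mem Q
  set ā := π ⟨a, hPN ha⟩ with hā
  have haw : ā * w * ā⁻¹ = w⁻¹ := hinv a ha hab2 haQ
  obtain ⟨y0, hy0⟩ := QuotientGroup.mk'_surjective Q' w
  set x : N := ⟨a, hPN ha⟩ * (y0 * ⟨a, hPN ha⟩ * y0⁻¹) with hx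
  have haa : ā * ā = 1 := by rw [hā, ← map_mul]; exact (hker _).2 hab2
  have hai : ā⁻¹ = ā := inv_eq_of_mul_eq_one_left haa
  have hπy : π y0 = w := hy0
  have hπx : π x = w⁻¹ * w⁻¹ := by
    rw [hx, map_mul, map_mul, map_mul, map_inv, hπy, ← hā]
    calc ā * (w * ā * w⁻¹) = (ā * w * ā⁻¹) * (ā * ā) * w⁻¹ := by group
      _ = w⁻¹ * w⁻¹ := by rw [haw, haa, mul_one]
  have hxo : orderOf (π x) = p := by
    refine orderOf_eq_prime ?_ ?_
    · rw [hπx]; exact hWe _ (mul_mem (inv_mem hw) (inv_mem hw))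
    · rw [hπx, ← mul_inv_rev, Ne, inv_eq_one, ← pow_two, ← orderOf_dvd_iff_pow_eq_one, hwo]
      exact fun hd => hp2 ((Nat.prime_dvd_prime_iff_eq hp Nat.prime_two).1 hd)
  have hxp : orderOf (x : G) = p := h.orderOf_eq hp hp2
    (by rw [orderOf_coe]; exact hxo ▸ orderOf_map_dvd π x)
  refine ⟨p, x, hp, hp2, x.2, hxp, ?_, fun b hb hbb hbQ => hcent _ (mul_mem ha hb) ?_, ?_⟩
  · have hai' : a⁻¹ = a := inv_eq_of_mul_eq_one_left (sq_of_orderOf_two ha2).1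
    rw [hx]
    simp only [Subgroup.coe_mul, Subgroup.coe_inv]
    rw [mul_inv_rev (a := a), mul_inv_rev, mul_inv_rev, inv_inv, hai']
    calc a * (a * ((y0 : G) * a * (y0 : G)⁻¹)) * a
        = (a * a) * ((y0 : G) * a * (y0 : G)⁻¹ * a) := by simp only [mul_assoc]
      _ = _ := by rw [(sq_of_orderOf_two ha2).1, one_mul]; simp only [mul_assoc]
  · have e : π ⟨a * b, hPN (mul_mem ha hb)⟩ = ā * π ⟨b, hPN hb⟩ := by rw [hā, ← map_mul]; rfl
    rw [e]
    refine mul_inv_eq_iff_eq_mul.1 ?_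
    rw [show ā * π ⟨b, hPN hb⟩ * w * (ā * π ⟨b, hPN hb⟩)⁻¹ =
      ā * (π ⟨b, hPN hb⟩ * w * (π ⟨b, hPN hb⟩)⁻¹) * ā⁻¹ by group, hinv b hb hbb hbQ,
      ← conj_inv, haw, inv_inv]
  · rintro rfl b hb
    refine hcent _ (mul_mem hb hb) ?_
    set bb := π ⟨b, hPN hb⟩
    have e : π ⟨b * b, hPN (mul_mem hb hb)⟩ = bb * bb := by rw [← map_mul]; rfl
    rw [e]
    refine mul_inv_eq_iff_eq_mul.1 ?_
    have hmem : bb * w * bb⁻¹ ∈ W := hWn.conj_mem w hw bb
    rw [show bb * bb * w * (bb * bb)⁻¹ = bb * (bb * w * bb⁻¹) * bb⁻¹ by group]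
    rcases mem_or_inv_of_card_three hWcard hw hw1 hmem (by simpa using hw1) with e' | e'
    · rw [e', e']
    · rw [e', ← conj_inv, e', inv_inv]

end Cfsg.Agent.H59.PSLSeven
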