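import Cfsg.Agent.H59.PSLSeven.Outer
import Cfsg.Agent.H59.PSLSeven.NonSimple
import Cfsg.Agent.H28.StronglyEmbedded
import Cfsg.Agent.H28.CyclicSylow
import Cfsg.Agent.H77.TransferTwo
import Cfsg.Agent.H78.IndexTwo
import Cfsg.Agent.H50.StronglyEmbedded
import Cfsg.Agent.S1475

/-!
# `PSL(2,7)` by element orders: the strongly embedded subgroup
-/

set_option autoImplicit false
set_option linter.style.haveILetI false
set_option linter.unusedSectionVars false

namespace Cfsg.Agent.H59.PSLSeven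

open Subgroup

local instance factTwoSE : Fact (Nat.Prime 2) := ⟨Nat.prime_two⟩

variable {G : Type*} [Group G] [Finite G]

/-- A solvable subgroup with nontrivial 2-core and no subgroup of index two: the core is Sylow. -/
theorem le_core (h : Hyp G) {M Q : Subgroup G} (L : Core M Q)
    (hM2 : ∀ M0 : Subgroup M, M0.index ≠ 2) {T : Subgroup G} (hT : IsPGroup 2 T) (hTM : T ≤ M) :
    T ≤ Q := by
  intro a ha
  by_contra haQ
  haveI := L.solv
  set Q' : Subgroup M := Q.subgroupOf M with hQ'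
  haveI hQn : Q'.Normal := (normal_subgroupOf_iff_le_normalizer L.le).2 L.norm
  let π := QuotientGroup.mk' Q'
  have hker : ∀ x : M, π x = 1 ↔ (x : G) ∈ Q := fun x =>
    (QuotientGroup.eq_one_iff x).trans mem_subgroupOf
  haveI : Nontrivial (M ⧸ Q') := nontrivial_of_ne (π ⟨a, hTM ha⟩) 1 fun e => haQ ((hker _).1 e)
  haveI : Group.IsSolvable (M ⧸ Q') :=
    Group.isSolvable_of_surjective (QuotientGroup.mk'_surjective Q')
  obtain ⟨W, p, hWn, hW1, hWc, hp, hWp, hWe⟩ := H19.exists_normal_elementary (G := M ⧸ Q')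
  haveI := hWn
  haveI := Fact.mk hp
  have hQ'p : IsPGroup 2 Q' := L.pg.comap_of_injective _ M.subtype_injective
  have hp2 : p ≠ 2 := by
    rintro rfl
    have hR : IsPGroup 2 (W.comap π) := hWp.comap_of_ker_isPGroup π (by
      rw [QuotientGroup.ker_mk']; exact hQ'p)
    have hle := L.max ((W.comap π).map M.subtype) (map_subtype_le _) (hR.map _) (by
      intro g hg
      refine mem_normalizer_fintype fun x hx => ?_
      obtain ⟨y, hy, rfl⟩ := hx
      exact ⟨⟨g, hg⟩ * y * (⟨g, hg⟩)⁻¹, (hWn.comap π).conj_mem y hy _, rfl⟩)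
    refine hW1 ((eq_bot_iff_forall W).2 fun z hz => ?_)
    obtain ⟨x, rfl⟩ := QuotientGroup.mk'_surjective Q' z
    exact (hker x).2 (hle ⟨x, hz, rfl⟩)
  have hQ'1 : Q' ≠ ⊥ := fun e => L.ne (by
    have := congrArg (Subgroup.map M.subtype) e
    rwa [hQ', map_subgroupOf_eq_of_le L.le, Subgroup.map_bot] at this)
  have hWcard : Nat.card W = p :=
    (h.subgroup M).epo.card_layer hp2 Q' hQ'p hQ'1 W hW1 hWc hWe
  have hH : Hyp (M ⧸ Q') := (h.subgroup M).quotient Q'
  obtain ⟨w, hw, hwo⟩ := H86.AllPrimePowerOrder.exists_orderOf_eq hWp hW1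
  set C := centralizer (W : Set (M ⧸ Q'))
  haveI : C.Normal := inferInstance
  set b := π ⟨a, hTM ha⟩
  obtain ⟨k, hk⟩ := IsPGroup.iff_orderOf.1 hT ⟨a, ha⟩
  rw [orderOf_mk] at hk
  have hd := orderOf_map_dvd π ⟨a, hTM ha⟩
  rw [orderOf_mk, hk] at hd
  have hbC : b ∉ C := fun hb => haQ ((hker _).1 (by
    obtain ⟨i, -, hi⟩ := (Nat.dvd_prime_pow Nat.prime_two).1 hd
    exact hH.not_commute_two hp hp2 hi hwo ((mem_centralizer_iff.1 hb) w hw).symm))
  set ρ := QuotientGroup.mk' C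
  have hd2 : orderOf (ρ b) ∣ 2 ^ k := (orderOf_map_dvd ρ b).trans hd
  obtain ⟨i, -, hi⟩ := (Nat.dvd_prime_pow Nat.prime_two).1 hd2
  have heven : 2 ∣ Nat.card ((M ⧸ Q') ⧸ C) := by
    refine (dvd_trans ?_ hi.symm.dvd).trans (orderOf_dvd_natCard _)
    refine dvd_pow_self 2 fun hi0 => hbC ?_
    rw [hi0, pow_zero, orderOf_eq_one_iff] at hi
    exact (QuotientGroup.eq_one_iff b).1 hi
  obtain ⟨H, -, hH2⟩ := H78.exists_index_two_of_comm
    (fun x y => H86.AllPrimePowerOrder.quotient_centralizer_comm W hWcard x y) heven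
  refine hM2 (H.comap (ρ.comp π)) ?_
  rw [index_comap_of_surjective _
    (show Function.Surjective (ρ.comp π) from
      (QuotientGroup.mk'_surjective C).comp (QuotientGroup.mk'_surjective Q')), hH2]

/-- A strongly embedded subgroup has no subgroup of index two. -/
theorem no_index_two_of_se (hG2 : ∀ H : Subgroup G, H.index ≠ 2) (T : Sylow 2 G)
    {M : Subgroup G} (hM : Cfsg.IsStronglyEmbedded M) (hTM : (T : Subgroup G) ≤ M)
    (M0 : Subgroup M) : M0.index ≠ 2 := by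
  intro h2
  haveI hn := normal_of_index_eq_two h2
  set K := M0.map M.subtype with hK
  have hmemK : ∀ (u : G) (hu : u ∈ M), u ∈ K ↔ (⟨u, hu⟩ : M) ∈ M0 := fun u hu => by simp [hK, hu]
  have hconj : ∀ g ∈ M, ∀ u ∈ K, g * u * g⁻¹ ∈ K := by
    rintro g hg _ ⟨u, hu, rfl⟩
    exact ⟨⟨g, hg⟩ * u * (⟨g, hg⟩)⁻¹, hn.conj_mem u hu _, rfl⟩
  have hgM : ∀ u ∈ (T : Subgroup G), u ≠ 1 → ∀ g : G, g⁻¹ * u * g ∈ M → g ∈ M := by
    intro u hu hu1 g hg
    obtain ⟨k, hk⟩ := IsPGroup.iff_orderOf.1 T.2 ⟨u, hu⟩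
    rw [orderOf_mk] at hk
    obtain ⟨j, rfl⟩ : ∃ j, k = j + 1 := Nat.exists_eq_succ_of_ne_zero fun e =>
      hu1 (orderOf_eq_one_iff.1 (by rw [hk, e, pow_zero]))
    refine H28.mem_of_isStronglyEmbedded hM (M.pow_mem (hTM hu) (2 ^ j)) ?_ ?_
    · rw [orderOf_pow' _ (pow_ne_zero _ two_ne_zero), hk,
        Nat.gcd_eq_right (pow_dvd_pow 2 (Nat.le_succ j)), pow_succ,
        Nat.mul_div_cancel_left _ (by positivity)]
    · have h1 := M.pow_mem hg (2 ^ j)
      rwa [show g⁻¹ * u * g = g⁻¹ * u * (g⁻¹)⁻¹ by rw [inv_inv], conj_pow, inv_inv] at h1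
  obtain ⟨x1, hx1T, hx1K⟩ : ∃ x ∈ (T : Subgroup G), x ∉ K := by
    by_contra hc
    push Not at hc
    have hle : (T : Subgroup G).subgroupOf M ≤ M0 := fun u hu => (hmemK u u.2).1 (hc u hu)
    have hd := Subgroup.index_dvd_of_le hle
    rw [h2] at hd
    exact (T.subtype hTM).not_dvd_index (by rw [Sylow.coe_subtype]; exact hd)
  obtain ⟨x, ⟨hxT, hxK⟩, hmin⟩ := Set.exists_min_image
    {x : G | x ∈ (T : Subgroup G) ∧ x ∉ K} orderOf (Set.toFinite _) ⟨x1, hx1T, hx1K⟩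
  set D := (T : Subgroup G) ⊓ K with hD
  have hrel : D.relIndex (T : Subgroup G) = 2 := by
    refine index_eq_two_iff.2 ⟨⟨x, hxT⟩, fun b => ?_⟩
    simp only [mem_subgroupOf, Subgroup.coe_mul, hD, Subgroup.mem_inf]
    have key := mul_mem_iff_of_index_two h2 (a := (⟨b, hTM b.2⟩ : M)) (b := ⟨x, hTM hxT⟩)
    rw [← hmemK _ (hTM b.2), ← hmemK _ (hTM hxT)] at key
    have key' : (b : G) * x ∈ K ↔ ((b : G) ∈ K ↔ x ∈ K) :=
      (hmemK _ (mul_mem (hTM b.2) (hTM hxT))).trans key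
    have hbx : (b : G) * x ∈ (T : Subgroup G) := mul_mem b.2 hxT
    by_cases hb : (b : G) ∈ K
    · exact Or.inr ⟨⟨b.2, hb⟩, fun hh => hxK ((key'.1 hh.2).1 hb)⟩
    · exact Or.inl ⟨⟨hbx, key'.2 ⟨fun hh => absurd hh hb, fun hh => absurd hh hxK⟩⟩,
        fun hh => hb hh.2⟩
  obtain ⟨n, hn2⟩ := IsPGroup.iff_orderOf.1 T.2 ⟨x, hxT⟩
  rw [orderOf_mk] at hn2
  have hx1 : x ≠ 1 := fun e => hxK (e ▸ one_mem K)
  obtain ⟨g, hg⟩ := H77.exists_conj_mem_of_transfer hG2 T D inf_le_left hrel x n hn2 (by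
    intro k g hk hkd hgk
    refine ⟨hgk, ?_⟩
    have hxk : x ^ k ∈ K := by
      by_contra hc
      have := hmin _ (show x ^ k ∈ (T : Subgroup G) ∧ x ^ k ∉ K from ⟨pow_mem hxT k, hc⟩)
      rw [orderOf_pow' _ (by omega), hn2, Nat.gcd_eq_right hkd] at this
      exact absurd (Nat.div_lt_self (Nat.two_pow_pos n) hk) (not_lt.2 this)
    rcases eq_or_ne (x ^ k) 1 with e | e
    · rw [e, mul_one, inv_mul_cancel]; exact one_mem K
    · have := hconj g⁻¹ (inv_mem (hgM _ (pow_mem hxT k) e g (hTM hgk))) _ hxk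
      rwa [inv_inv] at this)
  have hgm : g ∈ M := by
    have := hgM x hxT hx1 g⁻¹ (by rw [inv_inv]; exact hTM hg.1)
    simpa using inv_mem this
  have := hconj g⁻¹ (inv_mem hgm) _ hg.2
  rw [show g⁻¹ * (g * x * g⁻¹) * g⁻¹⁻¹ = x by group] at this
  exact hxK this

/-- The shape of a solvable strongly embedded subgroup with nontrivial 2-core. -/
theorem se_shape (h : Hyp G) (hG2 : ∀ H : Subgroup G, H.index ≠ 2) (T : Sylow 2 G)
    {M Y : Subgroup G} (hM : Cfsg.IsStronglyEmbedded M) (hTM : (T : Subgroup G) ≤ M)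
    (hs : Group.IsSolvable M) (hY : IsPGroup 2 Y) (hY1 : Y ≠ ⊥) (hYM : Y ≤ M)
    (hYn : M ≤ normalizer (Y : Set G)) :
    M ≤ normalizer ((T : Subgroup G) : Set G) ∧
      ∃ r : ℕ, r.Prime ∧ r ≠ 2 ∧ Nat.card M = Nat.card (T : Subgroup G) * r ∧
        Nat.card {t : G // orderOf t = 2 ∧ t ∈ M} = r := by
  haveI := hs
  obtain ⟨Q, L, -⟩ := exists_core hs hY hY1 hYM hYn
  have hM2 := no_index_two_of_se hG2 T hM hTM
  have hTQ : Q = (T : Subgroup G) := T.3 L.pg (le_core h L hM2 T.2 hTM)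
  have hTn : M ≤ normalizer ((T : Subgroup G) : Set G) := hTQ ▸ L.norm
  refine ⟨hTn, ?_⟩
  set T' := (T : Subgroup G).subgroupOf M with hT'
  haveI : T'.Normal := (normal_subgroupOf_iff_le_normalizer hTM).2 hTn
  have hT'c : Nat.card T' = Nat.card (T : Subgroup G) :=
    Nat.card_congr (subgroupOfEquivOfLe hTM).toEquiv
  obtain ⟨k, hk⟩ := IsPGroup.iff_card.1 T.2
  have hidx : Nat.card (M ⧸ T') * Nat.card (T : Subgroup G) = Nat.card M := by
    rw [← hT'c, ← card_eq_card_quotient_mul_card_subgroup]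
  have h2n : ¬ 2 ∣ Nat.card (M ⧸ T') := by
    have := (T.subtype hTM).not_dvd_index
    rwa [Sylow.coe_subtype] at this
  have hne1 : Nat.card (M ⧸ T') ≠ 1 := by
    intro e
    rw [e, one_mul, hk] at hidx
    obtain ⟨j, rfl⟩ : ∃ j, k = j + 1 := Nat.exists_eq_succ_of_ne_zero fun k0 => by
      rw [k0, pow_zero] at hidx
      have := even_iff_two_dvd.1 hM.2.1
      omega
    obtain ⟨H, hH⟩ := H28.exists_index_two_of_card_two_pow hidx.symm
    exact hM2 H hH
  obtain ⟨p, hp, hpd⟩ := Nat.exists_prime_and_dvd hne1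
  have hp2 : p ≠ 2 := fun e => h2n (e ▸ hpd)
  haveI := Fact.mk hp
  have hMd : Nat.card (M ⧸ T') ∣ Nat.card M := Dvd.intro _ hidx
  have honly : ∀ {q : ℕ}, q.Prime → q ∣ Nat.card (M ⧸ T') → q = p := by
    intro q hq hqd
    by_contra hne
    have h3 := S1475.result (G := M) fun g => by
      rcases eq_or_ne g 1 with e | e
      · exact Or.inr e
      · exact Or.inl ((h.subgroup M).epo g e)
    have hsub : ({2, p, q} : Finset ℕ) ⊆ (Nat.card M).primeFactors := by
      intro a ha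
      simp only [Finset.mem_insert, Finset.mem_singleton] at ha
      rw [Nat.mem_primeFactors]
      rcases ha with rfl | rfl | rfl
      · exact ⟨Nat.prime_two, even_iff_two_dvd.1 hM.2.1, Nat.card_pos.ne'⟩
      · exact ⟨hp, hpd.trans hMd, Nat.card_pos.ne'⟩
      · exact ⟨hq, hqd.trans hMd, Nat.card_pos.ne'⟩
    have hc : ({2, p, q} : Finset ℕ).card = 3 :=
      Finset.card_eq_three.2 ⟨2, p, q, Ne.symm hp2, fun e => h2n (e ▸ hqd), Ne.symm hne, rfl⟩
    have := (Finset.card_le_card hsub).trans h3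
    omega
  have hpow := Nat.eq_prime_pow_of_unique_prime_dvd (n := Nat.card (M ⧸ T')) (p := p) Nat.card_pos.ne'
    honly
  set m := (Nat.card (M ⧸ T')).primeFactorsList.length
  have hm1 : m = 1 := by
    by_contra hm
    have hm2 : 2 ≤ m := by
      rcases Nat.eq_zero_or_pos m with e | e
      · rw [e, pow_zero] at hpow; exact absurd hpow hne1
      · omega
    obtain ⟨E, hE⟩ := Sylow.exists_subgroup_card_pow_prime (G := M ⧸ T') p (n := 2)
      (by rw [hpow]; exact pow_dvd_pow p hm2)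
    have hEc : IsMulCommutative E := IsPGroup.isMulCommutative_of_card_eq_prime_sq hE
    have hcard := (h.subgroup M).epo.card_layer hp2 T' (T.2.comap_of_injective _ M.subtype_injective)
      (fun e => by
        rw [e, Subgroup.card_bot] at hT'c
        have := even_iff_two_dvd.1 hM.2.1
        rw [← hidx, ← hT'c, mul_one] at this
        exact h2n this) E
      (fun e => by
        rw [e, Subgroup.card_bot] at hE
        exact absurd hE.symm (Nat.one_lt_pow two_ne_zero hp.one_lt).ne')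
      hEc (fun x hx => ((h.subgroup M).quotient T').pow_eq_one hp2 (IsPGroup.of_card hE) hx)
    rw [hE] at hcard
    have h' : p * p = p * 1 := by rw [mul_one, ← pow_two]; exact hcard
    exact hp.ne_one (Nat.eq_of_mul_eq_mul_left hp.pos h')
  rw [hm1, pow_one] at hpow
  refine ⟨p, hp, hp2, by rw [← hidx, hpow, mul_comm], ?_⟩
  -- the involutions
  obtain ⟨z0, hz0c, hz0o⟩ : ∃ z0 ∈ Subgroup.center (T : Subgroup G), orderOf z0 = 2 := by
    haveI : Nontrivial (T : Subgroup G) := (nontrivial_iff_ne_bot _).2 fun e => L.ne (hTQ.trans e)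
    haveI := T.2.center_nontrivial
    exact H86.AllPrimePowerOrder.exists_orderOf_eq (T.2.to_subgroup _)
      ((nontrivial_iff_ne_bot _).1 inferInstance)
  rw [← Subgroup.orderOf_coe] at hz0o
  have hcen : centralizer ({(z0 : G)} : Set G) = (T : Subgroup G) :=
    T.3 (h.epo.isPGroup_centralizer hz0o _ fun _ hx => mem_centralizer_singleton_iff.1 hx)
      fun s hs => mem_centralizer_singleton_iff.2
        (congrArg Subtype.val (mem_center_iff.1 hz0c ⟨s, hs⟩))
  have hfus := ((H28.isStronglyEmbedded_iff_centralizer_fusion hM.1 hM.2.1).1 hM).2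
  let f : M ⧸ T' → {t : G // orderOf t = 2 ∧ t ∈ M} := fun c =>
    ⟨(c.out : G) * z0 * (c.out : G)⁻¹, by rw [H50.orderOf_conj, hz0o],
      mul_mem (mul_mem c.out.2 (hTM z0.2)) (inv_mem c.out.2)⟩
  rw [← hpow]
  refine (Nat.card_eq_of_bijective f ⟨fun a b e => ?_, fun t => ?_⟩).symm
  · have e' : (a.out : G) * z0 * (a.out : G)⁻¹ = (b.out : G) * z0 * (b.out : G)⁻¹ :=
      congrArg Subtype.val e
    have hmem : ((b.out⁻¹ * a.out : M) : G) ∈ centralizer ({(z0 : G)} : Set G) := by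
      rw [mem_centralizer_singleton_iff, Subgroup.coe_mul, Subgroup.coe_inv]
      calc (b.out : G)⁻¹ * a.out * z0 = (b.out : G)⁻¹ * ((a.out : G) * z0 * (a.out : G)⁻¹) * a.out := by
            group
        _ = (z0 : G) * ((b.out : G)⁻¹ * a.out) := by rw [e']; group
    rw [hcen] at hmem
    rw [← QuotientGroup.out_eq' a, ← QuotientGroup.out_eq' b]
    exact (QuotientGroup.eq.2 (mem_subgroupOf.2 hmem)).symm
  · obtain ⟨m', hm', hmt⟩ := hfus z0 (hTM z0.2) t.1 t.2.2 hz0o t.2.1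
      (H50.se_isConj hM hz0o t.2.1)
    refine ⟨((⟨m', hm'⟩ : M) : M ⧸ T'), Subtype.ext ?_⟩
    obtain ⟨⟨s, hs⟩, hout⟩ := QuotientGroup.mk_out_eq_mul T' (⟨m', hm'⟩ : M)
    show _ * (z0 : G) * _⁻¹ = t.1
    rw [hout, Subgroup.coe_mul, ← hmt]
    have hsz : (s : G) * z0 * (s : G)⁻¹ = z0 := by
      rw [mul_inv_eq_iff_eq_mul]
      exact mem_centralizer_singleton_iff.1 (hcen.symm ▸ mem_subgroupOf.1 hs)
    calc m' * (s : G) * z0 * (m' * (s : G))⁻¹ = m' * ((s : G) * z0 * (s : G)⁻¹) * m'⁻¹ := by group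
      _ = m' * z0 * m'⁻¹ := by rw [hsz]

end Cfsg.Agent.H59.PSLSeven
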